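import Cfsg.Agent.SporRec.Co3.Ident
import Cfsg.Agent.CpAut.SpSix
import Cfsg.Agent.S0277
import Cfsg.Agent.S0245
import Cfsg.Agent.SporRec.Co3.LineCode_mg
import Cfsg.Agent.KFacts.Co3D4.Model
import Cfsg.Agent.Lib.PGroupCoprimeAction
import Cfsg.Prelude.Def_Local
import Cfsg.Agent.SigZeroU5.Lift
import Cfsg.Agent.CpAut.Base
import Cfsg.Agent.SignalizersComponents.DistinctComponents
import Cfsg.Agent.GTwoOdd.Core.HFive_m3
import Cfsg.Agent.StdAlt.Six.AutLemmas
import Cfsg.Agent.H341.ThreeList_m3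
import Cfsg.Agent.S0254
import Cfsg.Agent.BpSpor.CoThreeCent
import Cfsg.Agent.KFacts.Co3.Out
import Cfsg.Agent.FastGrp
import Cfsg.Agent.Prune
set_option linter.all false
prune_inst 0x7ffcfcfbeff82ddfffff7e7ffefddffffbf87fffffdffbcbffe0ebff2fdf6b06bbc5fbaf9fead0ff1ef6e2b430b87813fbffeeffee6fdc7ffffd5ff45ffbee1fe5f7bd8c51b6b83e0fbc6fffe3f07f8e7f3fffffffffffffffffffffffffffbeffffffffffff
open scoped Cfsg.Agent.FastGrp

-- merged: Cfsg.Agent.CpAutCo3.Words
section

/-!
# An elementary abelian subgroup of order `3 ^ 5` of `Co₃`: kernel checks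

`e1, e2, e3` : commuting elements of order 3 of `C(Z)`; `tau` permutes them; `f1, f2` : commuting elements of order 3
inverted by `Z`, commuting with `e1, e2, e3`; `gg` conjugates `tau` to `e2 * e3`.
-/

set_option autoImplicit false

namespace Cfsg.Agent.CpAutCo3.Words

open Cfsg Cfsg.Agent.SporRec.Co3.Chain Cfsg.Agent.SporRec.Co3.Ident

/-- words -/
def we1 : List ℕ := [7, 0, 2]
/-- words -/
def we2 : List ℕ := [7, 4, 5]
/-- words -/
def we3 : List ℕ := [1, 3, 4, 5, 2, 3, 4, 0, 2, 3, 1, 3, 2, 0, 4, 3, 2, 5, 4, 3, 7]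
/-- words -/
def wtau : List ℕ := [7, 3, 4, 5, 1, 3, 4, 2, 3, 0, 2, 1, 3, 4, 5, 4, 0, 2, 0]
/-- words -/
def wg : List ℕ := [3, 4, 2, 1, 3, 2, 1]
/-- words -/
def wg1 : List ℕ := [3, 2, 8, 5, 2, 8, 8, 5, 8]
/-- words -/
def wg1' : List ℕ := [8, 8, 5, 7, 8, 2, 5, 8, 8, 2, 3]
/-- words -/
def wg2 : List ℕ := [3, 8, 8, 2, 8, 5, 2, 8, 5, 8]
/-- words -/
def wg2' : List ℕ := [8, 8, 5, 7, 8, 8, 2, 5, 8, 8, 2, 7, 8, 3, 7]
/-- words -/
def wf1 : List ℕ := [7] ++ wg1 ++ [7] ++ wg1'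
/-- words -/
def wf2 : List ℕ := [7] ++ wg2 ++ [7] ++ wg2'

theorem k_e1 : chk (we1 ++ we1 ++ we1) [] = true := by decide +kernel
theorem k_e2 : chk (we2 ++ we2 ++ we2) [] = true := by decide +kernel
theorem k_e3 : chk (we3 ++ we3 ++ we3) [] = true := by decide +kernel
theorem k_tau : chk (wtau ++ wtau ++ wtau) [] = true := by decide +kernel
theorem k_12 : chk (we1 ++ we2) (we2 ++ we1) = true := by decide +kernel
theorem k_13 : chk (we1 ++ we3) (we3 ++ we1) = true := by decide +kernel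
theorem k_23 : chk (we2 ++ we3) (we3 ++ we2) = true := by decide +kernel
theorem k_t1 : chk (wtau ++ we1) (we2 ++ wtau) = true := by decide +kernel
theorem k_t2 : chk (wtau ++ we2) (we3 ++ wtau) = true := by decide +kernel
theorem k_t3 : chk (wtau ++ we3) (we1 ++ wtau) = true := by decide +kernel
theorem k_g : chk (wg ++ wtau) (we2 ++ we3 ++ wg) = true := by decide +kernel
theorem k_f1 : chk (wf1 ++ wf1 ++ wf1) [] = true := by decide +kernel
theorem k_f2 : chk (wf2 ++ wf2 ++ wf2) [] = true := by decide +kernel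
theorem k_ff : chk (wf1 ++ wf2) (wf2 ++ wf1) = true := by decide +kernel
theorem k_e1f1 : chk (we1 ++ wf1) (wf1 ++ we1) = true := by decide +kernel
theorem k_e2f1 : chk (we2 ++ wf1) (wf1 ++ we2) = true := by decide +kernel
theorem k_e3f1 : chk (we3 ++ wf1) (wf1 ++ we3) = true := by decide +kernel
theorem k_e1f2 : chk (we1 ++ wf2) (wf2 ++ we1) = true := by decide +kernel
theorem k_e2f2 : chk (we2 ++ wf2) (wf2 ++ we2) = true := by decide +kernel
theorem k_e3f2 : chk (we3 ++ wf2) (wf2 ++ we3) = true := by decide +kernel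
theorem k_Ze1 : chk ([7] ++ we1) (we1 ++ [7]) = true := by decide +kernel
theorem k_Ze2 : chk ([7] ++ we2) (we2 ++ [7]) = true := by decide +kernel
theorem k_Ze3 : chk ([7] ++ we3) (we3 ++ [7]) = true := by decide +kernel
theorem k_Zt : chk ([7] ++ wtau) (wtau ++ [7]) = true := by decide +kernel
theorem k_Zf1 : chk ([7] ++ wf1) (wf1 ++ wf1 ++ [7]) = true := by decide +kernel
theorem k_Zf2 : chk ([7] ++ wf2) (wf2 ++ wf2 ++ [7]) = true := by decide +kernel

end Cfsg.Agent.CpAutCo3.Words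

end

-- merged: Cfsg.Agent.CpAutCo3.EGrp
section

/-!
# An elementary abelian subgroup of order `3 ^ 5` of `Co₃`

`exists_E` : subgroups `E0 = ⟨e1, e2, e3⟩ ≤ E`, `|E0| ≥ 27`, `|E| ≥ 243`.
-/

set_option autoImplicit false

namespace Cfsg.Agent.CpAutCo3.EGrp

open Subgroup Cfsg Cfsg.Agent.SporRec.Co3.Chain Cfsg.Agent.SporRec.Co3.Ident Cfsg.Agent.SporRec.LeechChain
  Cfsg.Agent.SporRec.LeechMod3 Cfsg.Agent.SporRec.Co3.MatData Cfsg.Agent.SporRec.Co3.ChainData
open Cfsg.Agent.Lib.PackMat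
open Cfsg.Agent.CpAutCo3.Words

/-! ### elementary abelian subgroups -/

section abs

variable {G : Type*} [Group G]

/-- elementary abelian of exponent 3 -/
structure El (E : Subgroup G) : Prop where
  comm : ∀ a ∈ E, ∀ b ∈ E, a * b = b * a
  exp : ∀ a ∈ E, a ^ 3 = 1

theorem El.isPGroup {E : Subgroup G} (hE : El E) : IsPGroup 3 ↥E := fun a =>
  ⟨1, Subtype.ext (by rw [pow_one]; exact hE.exp a a.2)⟩

theorem el_bot : El (⊥ : Subgroup G) := by
  refine ⟨?_, ?_⟩
  · intro a ha b hb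
    rw [mem_bot.1 ha, mem_bot.1 hb]
  · intro a ha
    rw [mem_bot.1 ha, one_pow]

/-- one more generator -/
theorem ext_step [Finite G] {E : Subgroup G} (hE : El E) {x : G} (hx3 : x ^ 3 = 1) (hcx : ∀ a ∈ E, x * a = a * x)
    (hx : x ∉ E) : ∃ E' : Subgroup G, El E' ∧ E ≤ E' ∧ x ∈ E' ∧ 3 * Nat.card ↥E ≤ Nat.card ↥E' ∧
      ∀ y ∈ E', ∃ a ∈ E, ∃ n : ℤ, y = a * x ^ n := by
  have hc : ∀ a ∈ E, ∀ n : ℤ, Commute a (x ^ n) := fun a ha n =>
    Commute.zpow_right (show a * x = x * a from (hcx a ha).symm) n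
  let E' : Subgroup G :=
    { carrier := {y | ∃ a ∈ E, ∃ n : ℤ, y = a * x ^ n}
      one_mem' := ⟨1, E.one_mem, 0, by rw [zpow_zero, mul_one]⟩
      mul_mem' := by
        rintro _ _ ⟨a, ha, n, rfl⟩ ⟨b, hb, m, rfl⟩
        refine ⟨a * b, E.mul_mem ha hb, n + m, ?_⟩
        calc a * x ^ n * (b * x ^ m) = a * (x ^ n * b) * x ^ m := by simp only [mul_assoc]
          _ = a * (b * x ^ n) * x ^ m := by rw [(hc b hb n).eq]
          _ = a * b * x ^ (n + m) := by rw [zpow_add]; simp only [mul_assoc]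
      inv_mem' := by
        rintro _ ⟨a, ha, n, rfl⟩
        refine ⟨a⁻¹, E.inv_mem ha, -n, ?_⟩
        rw [mul_inv_rev, ← zpow_neg]
        exact ((hc _ (E.inv_mem ha) (-n)).eq).symm }
  have hmem : ∀ {y : G}, y ∈ E' ↔ ∃ a ∈ E, ∃ n : ℤ, y = a * x ^ n := Iff.rfl
  have hEE : E ≤ E' := fun a ha => hmem.2 ⟨a, ha, 0, by rw [zpow_zero, mul_one]⟩
  have hxE : x ∈ E' := hmem.2 ⟨1, E.one_mem, 1, by rw [zpow_one, one_mul]⟩
  have hel : El E' := by
    refine ⟨?_, ?_⟩
    · rintro _ ⟨a, ha, n, rfl⟩ _ ⟨b, hb, m, rfl⟩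
      have h1 : Commute (a * x ^ n) (b * x ^ m) := by
        refine Commute.mul_left (Commute.mul_right (hE.comm a ha b hb) (hc a ha m))
          (Commute.mul_right (hc b hb n).symm ?_)
        exact (Commute.refl x).zpow_zpow n m
      exact h1
    · rintro _ ⟨a, ha, n, rfl⟩
      rw [(hc a ha n).mul_pow, hE.exp a ha, one_mul, ← zpow_natCast, ← zpow_mul, mul_comm, zpow_mul, zpow_natCast, hx3,
        one_zpow]
  refine ⟨E', hel, hEE, hxE, ?_, fun y hy => hy⟩
  have : Fact (Nat.Prime 3) := ⟨Nat.prime_three⟩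
  obtain ⟨k, hk⟩ := hE.isPGroup.exists_card_eq
  obtain ⟨m, hm⟩ := hel.isPGroup.exists_card_eq
  have hlt : Nat.card ↥E < Nat.card ↥E' := by
    refine lt_of_le_of_ne (Nat.card_le_card_of_injective _ (inclusion_injective hEE)) fun h => hx ?_
    have h1 : E = E' := Subgroup.eq_of_le_of_card_ge hEE h.ge
    rw [h1]
    exact hxE
  rw [hk, hm] at hlt ⊢
  have h2 := (Nat.pow_lt_pow_iff_right (by norm_num : 1 < 3)).1 hlt
  calc 3 * 3 ^ k = 3 ^ (k + 1) := by ring
    _ ≤ 3 ^ m := Nat.pow_le_pow_right (by norm_num) h2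

end abs

/-! ### words different from 1 -/

/-- kernel check: some unit row is moved -/
noncomputable def chkN (u : List ℕ) : Bool :=
  wok gs0 (u.flatMap exl) && (List.range 24).any fun i =>
    !(Nat.beq (run cfg (wmats gs0 (u.flatMap exl)) (unitRow cfg 1 i)) (unitRow cfg 1 i))

theorem mw_ne {u : List ℕ} (h : chkN u = true) : mw A Z W0 u ≠ 1 := by
  unfold chkN at h
  rw [Bool.and_eq_true, List.any_eq_true] at h
  obtain ⟨h1, i, hi, h2⟩ := h
  rw [List.mem_range] at hi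
  rw [Bool.not_eq_true'] at h2
  intro h3
  have h4 : ((u.flatMap exl).map el).prod = 1 := by
    rw [← coe_mw, h3]
    rfl
  exact word_ne_one (gs := gs0) (g := el) (fun k hk => (el_spec k hk).2) h1
    (unitRow_ok (good_of_check cfg_good) (by decide) hi).1 h2 h4

/-- words -/
def pw (u : List ℕ) : ℕ → List ℕ
  | 0 => []
  | n + 1 => pw u n ++ u

theorem mw_pw (u : List ℕ) (n : ℕ) : mw A Z W0 (pw u n) = mw A Z W0 u ^ n := by
  induction n with
  | zero => rfl
  | succ n ih =>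
    show mw A Z W0 (pw u n ++ u) = _
    rw [mw_append, ih, pow_succ]

theorem n1 : chkN we1 = true := by decide +kernel
theorem n2 : ((List.range 3).all fun i => chkN (pw we1 i ++ we2)) = true := by decide +kernel
theorem n3 : ((List.range 3).all fun i => (List.range 3).all fun j => chkN (pw we1 i ++ pw we2 j ++ we3)) = true := by
  decide +kernel
theorem nf : ((List.range 3).all fun i => chkN (pw wf1 i ++ wf2)) = true := by decide +kernel
theorem nf1 : chkN wf1 = true := by decide +kernel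
theorem n123 : chkN (we1 ++ we2 ++ we3) = true := by decide +kernel
end Cfsg.Agent.CpAutCo3.EGrp

end

-- merged: Cfsg.Agent.CpAutCo3.Sp
section

/-!
# Centralizers of elements of order three of `2.Sp₆(2)`: the 2-part is at most 32
-/

set_option autoImplicit false

namespace Cfsg.Agent.CpAutCo3.Sp

open Subgroup Cfsg
open Cfsg.Agent.SporRec.TwoSp6.Sp Cfsg.Agent.SporRec.TwoSp6.Main Cfsg.Agent.SporRec.TwoSp6.CInvol
open Cfsg.Agent.SporRec.Co3.Fusion (tC mem_cent t_sq t_ne)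

theorem card_dvd_mul {A B : Type*} [Group A] [Group B] (f : A →* B) : Nat.card A ∣ Nat.card ↥f.ker * Nat.card B := by
  have h1 : Nat.card A = Nat.card ↥f.ker * Nat.card ↥f.range := by
    rw [← Subgroup.index_ker, Subgroup.card_mul_index]
  rw [h1]
  exact mul_dvd_mul_left _ (card_subgroup_dvd_card _)

/-- in `Sp₆(2)` -/
theorem not_32 {y : S} (hy : orderOf y = 3) : ¬ 32 ∣ Nat.card ↥(centralizer ({y} : Set S)) := by
  obtain ⟨m, k, N, hm, hk, -, ⟨e⟩, F', _, _, θ, hF', hker⟩ :=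
    CpAut.SpThree.exists_struct (F := ZMod 2) (n := 3) (by rw [ZMod.card]) (x := y) hy
  rw [ZMod.card] at hF'
  have h1 : Nat.card ↥(centralizer ({y} : Set S)) ∣
      Nat.card (Matrix.symplecticGroup (Fin m) (ZMod 2)) * Nat.card (GU k F' (Fintype.card (ZMod 2))) := by
    refine (card_dvd_mul θ).trans (mul_dvd_mul_right ?_ _)
    rw [← Nat.card_congr e.toEquiv]
    exact card_dvd_of_le hker
  intro h32
  have h2 := h32.trans h1
  rw [S0245.result (F := ZMod 2) (q := 2) (by rw [ZMod.card]) m] at h2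
  rw [ZMod.card, S0277.result (F := F') (q := 2) hF' k] at h2
  have hk3 : k ≤ 3 - m := by omega
  interval_cases m
  · have hk' : k ≤ 3 := by omega
    interval_cases k <;> revert h2 <;> decide
  · have hk' : k ≤ 2 := by omega
    interval_cases k <;> revert h2 <;> decide
  · have hk' : k ≤ 1 := by omega
    interval_cases k <;> revert h2 <;> decide

/-- **in `2.Sp₆(2)`** -/
theorem not_64 {G : Type*} [Group G] [Finite G] {t : G} {π : centralizer ({t} : Set G) →* S} (N : NS (tC t) π) {x : G}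
    (hx : orderOf x = 3) (hxt : x * t = t * x) :
    ¬ 64 ∣ Nat.card ↥(centralizer ({x} : Set G) ⊓ centralizer ({t} : Set G)) := by
  set x' : centralizer ({t} : Set G) := ⟨x, mem_cent.2 hxt⟩ with hx'
  have hx1 : x ≠ 1 := by
    rintro rfl
    rw [orderOf_one] at hx
    norm_num at hx
  have hx3 : x ^ 3 = 1 := by rw [← hx, pow_orderOf_eq_one]
  have ho : orderOf (π x') = 3 := by
    have : Fact (Nat.Prime 3) := ⟨Nat.prime_three⟩
    apply orderOf_eq_prime
    · rw [← map_pow]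
      have : x' ^ 3 = 1 := Subtype.ext hx3
      rw [this, map_one]
    · intro h
      rcases N.ker _ h with h1 | h1
      · exact hx1 (congrArg Subtype.val h1)
      · have h2 : x = t := congrArg Subtype.val h1
        rw [h2, pow_succ, pow_two, t_sq N, one_mul] at hx3
        exact t_ne N hx3
  let f : ↥(centralizer ({x} : Set G) ⊓ centralizer ({t} : Set G)) →* ↥(centralizer ({π x'} : Set S)) :=
    (π.comp (inclusion inf_le_right)).codRestrict _ (fun d => by
      rw [mem_centralizer_singleton_iff]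
      show π (inclusion inf_le_right d) * π x' = π x' * π (inclusion inf_le_right d)
      rw [← map_mul, ← map_mul]
      congr 1
      exact Subtype.ext (mem_centralizer_singleton_iff.1 d.2.1))
  have hker : Nat.card ↥f.ker ∣ 2 := by
    have h1 : (f.ker : Set ↥(centralizer ({x} : Set G) ⊓ centralizer ({t} : Set G))) ⊆
        {1, ⟨t, mem_cent.2 hxt.symm, mem_cent.2 rfl⟩} := by
      intro d hd
      have h2 : π (inclusion inf_le_right d) = 1 := congrArg Subtype.val hd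
      rcases N.ker _ h2 with h | h
      · have h3 : (d : G) = 1 := congrArg Subtype.val h
        exact Or.inl (Subtype.ext h3)
      · have h3 : (d : G) = t := congrArg Subtype.val h
        exact Or.inr (Subtype.ext h3)
    have h3 := Set.ncard_le_ncard h1 (Set.toFinite _)
    rw [← Nat.card_coe_set_eq] at h3
    have h4 : Nat.card ↥f.ker ≤ 2 :=
      h3.trans (Set.ncard_insert_le _ _ |>.trans (by rw [Set.ncard_singleton]))
    have h5 : 0 < Nat.card ↥f.ker := Nat.card_pos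
    interval_cases h6 : Nat.card ↥f.ker <;> norm_num
  intro h64
  apply not_32 ho
  have h1 := (h64.trans (card_dvd_mul f)).trans (mul_dvd_mul_right hker _)
  exact Nat.dvd_of_mul_dvd_mul_left (by norm_num : 0 < 2) (by simpa only [_root_.Nat.reduceMul] using h1)

end Cfsg.Agent.CpAutCo3.Sp

end

-- merged: Cfsg.Agent.CpAutCo3.TwoA
section

/-!
# Elements of order three of `Co₃` commuting with an involution of class 2A

`exists_E` : `E0 ≤ E`, `|E| ≥ 243`, every element of order 3 of `C(Z)` is conjugate into `E0`.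
-/

set_option autoImplicit false

namespace Cfsg.Agent.CpAutCo3.TwoA

open Subgroup Cfsg Cfsg.Agent.SporRec.Co3.Chain Cfsg.Agent.SporRec.Co3.Ident
open Cfsg.Agent.SporRec.TwoSp6.Sp Cfsg.Agent.SporRec.TwoSp6.CInvol
open Cfsg.Agent.SporRec.Co3.Fusion (tC mem_cent t_sq t_ne)
open Cfsg.Agent.CpAutCo3.Words Cfsg.Agent.CpAutCo3.EGrp

/-! ### general facts -/

section abs

variable {G : Type*} [Group G]

theorem exists_pow_mul {x : G} (hx : x ^ 3 = 1) (n : ℤ) : ∃ i < 3, x ^ i * x ^ n = 1 := by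
  refine ⟨((-n) % 3).toNat, ?_, ?_⟩
  · have h1 : (-n) % 3 < 3 := Int.emod_lt_of_pos _ (by norm_num)
    have h2 : 0 ≤ (-n) % 3 := Int.emod_nonneg _ (by norm_num)
    omega
  · have h2 : 0 ≤ (-n) % 3 := Int.emod_nonneg _ (by norm_num)
    rw [← zpow_natCast, Int.toNat_of_nonneg h2, ← zpow_add]
    obtain ⟨k, hk⟩ : ∃ k : ℤ, (-n) % 3 + n = 3 * k := ⟨((-n) % 3 + n) / 3, by omega⟩
    rw [hk, zpow_mul]
    have h3 : x ^ (3 : ℤ) = 1 := by exact_mod_cast hx
    rw [h3, one_zpow]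

/-- a 3-group generated by a normalizing element -/
theorem tau_ext [Finite G] {E : Subgroup G} (hE : El E) {t : G} (ht3 : t ^ 3 = 1)
    (hn : ∀ a ∈ E, t * a * t⁻¹ ∈ E) (ht : t ∉ E) : ∃ T : Subgroup G, IsPGroup 3 ↥T ∧ E ≤ T ∧
      3 * Nat.card ↥E ≤ Nat.card ↥T ∧ ∀ y ∈ T, ∃ a ∈ E, y = a ∨ y = a * t ∨ y = a * (t * t) := by
  have hn2 : ∀ n : ℕ, ∀ a ∈ E, t ^ n * a * (t ^ n)⁻¹ ∈ E := by
    intro n
    induction n with
    | zero => intro a ha; simpa using ha
    | succ n ih =>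
      intro a ha
      have h1 : t ^ (n + 1) * a * (t ^ (n + 1))⁻¹ = t * (t ^ n * a * (t ^ n)⁻¹) * t⁻¹ := by
        rw [pow_succ' t n, mul_inv_rev]
        simp only [mul_assoc]
      rw [h1]
      exact hn _ (ih a ha)
  have hinv : ∀ n : ℕ, (t ^ n)⁻¹ = t ^ (2 * n) := by
    intro n
    rw [inv_eq_iff_mul_eq_one, ← pow_add, show n + 2 * n = 3 * n by ring, pow_mul, ht3, one_pow]
  let T : Subgroup G :=
    { carrier := {y | ∃ a ∈ E, ∃ n : ℕ, y = a * t ^ n}
      one_mem' := ⟨1, E.one_mem, 0, by rw [pow_zero, mul_one]⟩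
      mul_mem' := by
        rintro _ _ ⟨a, ha, n, rfl⟩ ⟨b, hb, m, rfl⟩
        refine ⟨a * (t ^ n * b * (t ^ n)⁻¹), E.mul_mem ha (hn2 n b hb), n + m, ?_⟩
        rw [pow_add]
        simp only [mul_assoc, inv_mul_cancel_left]
      inv_mem' := by
        rintro _ ⟨a, ha, n, rfl⟩
        refine ⟨t ^ (2 * n) * a⁻¹ * (t ^ (2 * n))⁻¹, hn2 _ _ (E.inv_mem ha), 2 * n, ?_⟩
        rw [mul_inv_rev, hinv]
        simp only [mul_assoc, inv_mul_cancel, mul_one] }
  have hmem : ∀ {y : G}, y ∈ T ↔ ∃ a ∈ E, ∃ n : ℕ, y = a * t ^ n := Iff.rfl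
  have hET : E ≤ T := fun a ha => hmem.2 ⟨a, ha, 0, by rw [pow_zero, mul_one]⟩
  have htT : t ∈ T := hmem.2 ⟨1, E.one_mem, 1, by rw [pow_one, one_mul]⟩
  have hT : IsPGroup 3 ↥T := by
    rintro ⟨y, hy⟩
    obtain ⟨a, ha, n, rfl⟩ := hmem.1 hy
    refine ⟨2, Subtype.ext ?_⟩
    show (a * t ^ n) ^ 3 ^ 2 = 1
    have h1 : (a * t ^ n) ^ 3 = a * (t ^ n * a * (t ^ n)⁻¹) * (t ^ (n + n) * a * (t ^ (n + n))⁻¹) * t ^ (3 * n) := by
      rw [show 3 * n = n + n + n by ring, pow_add t (n + n) n, pow_add t n n, pow_succ, pow_two, mul_inv_rev]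
      simp only [mul_assoc, inv_mul_cancel_left]
    have h2 : (a * t ^ n) ^ 3 ∈ E := by
      rw [h1, pow_mul, ht3, one_pow, mul_one]
      exact E.mul_mem (E.mul_mem ha (hn2 _ _ ha)) (hn2 _ _ ha)
    rw [show (3 : ℕ) ^ 2 = 3 * 3 by norm_num, pow_mul]
    exact hE.exp _ h2
  refine ⟨T, hT, hET, ?_, ?_⟩
  · have : Fact (Nat.Prime 3) := ⟨Nat.prime_three⟩
    obtain ⟨k, hk⟩ := hE.isPGroup.exists_card_eq
    obtain ⟨m, hm⟩ := hT.exists_card_eq
    have hlt : Nat.card ↥E < Nat.card ↥T := by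
      refine lt_of_le_of_ne (Nat.card_le_card_of_injective _ (inclusion_injective hET)) fun h => ht ?_
      have h1 : E = T := Subgroup.eq_of_le_of_card_ge hET h.ge
      rw [h1]
      exact htT
    rw [hk, hm] at hlt ⊢
    have h2 := (Nat.pow_lt_pow_iff_right (by norm_num : 1 < 3)).1 hlt
    calc 3 * 3 ^ k = 3 ^ (k + 1) := by ring
      _ ≤ 3 ^ m := Nat.pow_le_pow_right (by norm_num) h2
  · intro y hy
    obtain ⟨a, ha, n, rfl⟩ := hmem.1 hy
    refine ⟨a, ha, ?_⟩
    have h1 : t ^ n = t ^ (n % 3) := by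
      conv_lhs => rw [← Nat.div_add_mod n 3, pow_add, pow_mul, ht3, one_pow, one_mul]
    have h3 : n % 3 < 3 := Nat.mod_lt _ (by norm_num)
    rw [h1]
    interval_cases n % 3
    · left; rw [pow_zero, mul_one]
    · right; left; rw [pow_one]
    · right; right; rw [pow_two]

/-- a large 3-subgroup contains a conjugate of every element of order 3 -/
theorem conj_into [Finite G] (h : ¬ 3 ^ 5 ∣ Nat.card G) {T : Subgroup G} (hT : IsPGroup 3 ↥T) (hc : 81 ≤ Nat.card ↥T)
    {x : G} (hx : x ^ 3 = 1) : ∃ g : G, g * x * g⁻¹ ∈ T := by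
  have : Fact (Nat.Prime 3) := ⟨Nat.prime_three⟩
  obtain ⟨P, hP⟩ := hT.exists_le_sylow
  obtain ⟨k, hk⟩ := P.isPGroup'.exists_card_eq
  have hk5 : k < 5 := by
    by_contra hcon
    push Not at hcon
    exact h ((pow_dvd_pow 3 hcon).trans (by rw [← hk]; exact card_subgroup_dvd_card _))
  have hTP : T = P := by
    refine Subgroup.eq_of_le_of_card_ge hP ?_
    rw [hk]
    exact (Nat.pow_le_pow_right (by norm_num) (Nat.le_of_lt_succ hk5)).trans hc
  have hx3 : IsPGroup 3 ↥(zpowers x) := by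
    rintro ⟨y, hy⟩
    obtain ⟨n, rfl⟩ := mem_zpowers_iff.1 hy
    refine ⟨1, Subtype.ext ?_⟩
    show (x ^ n) ^ 3 ^ 1 = 1
    rw [pow_one, ← zpow_natCast, ← zpow_mul, mul_comm, zpow_mul, zpow_natCast, hx, one_zpow]
  obtain ⟨R, hR⟩ := hx3.exists_le_sylow
  obtain ⟨g, hg⟩ := MulAction.exists_smul_eq G R P
  refine ⟨g, ?_⟩
  rw [hTP, ← hg]
  exact Subgroup.smul_mem_pointwise_smul x (MulAut.conj g) (R : Subgroup G) (hR (mem_zpowers x))

end abs

/-! ### commutative identities -/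

theorem comm_id {M : Type*} [CommGroup M] (x y z : M) (a b c : ℤ) :
    x ^ a * y ^ b * z ^ c * (y ^ a * z ^ b * x ^ c) * (z ^ a * x ^ b * y ^ c) = (x * y * z) ^ (a + b + c) := by
  simp only [mul_zpow, zpow_add]
  ac_rfl

theorem comm_id2 {M : Type*} [CommGroup M] (x y z : M) (a b c : ℤ) (h : z ^ (a + b + c) = 1) :
    x ^ a * y ^ (a + b) * (y ^ a * z ^ (a + b))⁻¹ = x ^ a * y ^ b * z ^ c := by
  have h1 : z ^ c = (z ^ (a + b))⁻¹ := by
    rw [eq_inv_iff_mul_eq_one, ← zpow_add, ← h]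
    congr 1
    ring
  rw [h1, mul_inv_rev, zpow_add y]
  have h2 : x ^ a * (y ^ a * y ^ b) * ((z ^ (a + b))⁻¹ * (y ^ a)⁻¹) =
      x ^ a * y ^ b * (z ^ (a + b))⁻¹ * (y ^ a * (y ^ a)⁻¹) := by ac_rfl
  rw [h2, mul_inv_cancel, mul_one]

/-! ### the elements -/

/-- elements of order 3 of `C(Z)` -/
noncomputable def e1 : G3 := mw A Z W0 we1
/-- elements of order 3 of `C(Z)` -/
noncomputable def e2 : G3 := mw A Z W0 we2
/-- elements of order 3 of `C(Z)` -/
noncomputable def e3 : G3 := mw A Z W0 we3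
/-- permutes `e1, e2, e3` -/
noncomputable def tau : G3 := mw A Z W0 wtau
/-- conjugates `tau` to `e2 * e3` -/
noncomputable def gg : G3 := mw A Z W0 wg
/-- elements inverted by `Z` -/
noncomputable def f1 : G3 := mw A Z W0 wf1
/-- elements inverted by `Z` -/
noncomputable def f2 : G3 := mw A Z W0 wf2

theorem cube_of {u : List ℕ} (h : chk (u ++ u ++ u) [] = true) : mw A Z W0 u ^ 3 = 1 := by
  have h1 := mw_eq h
  rw [mw_append, mw_append, mw_nil] at h1
  rw [pow_succ, pow_two]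
  exact h1

theorem comm_of {u v : List ℕ} (h : chk (u ++ v) (v ++ u) = true) :
    mw A Z W0 u * mw A Z W0 v = mw A Z W0 v * mw A Z W0 u := by
  have h1 := mw_eq h
  rwa [mw_append, mw_append] at h1

theorem e1_cube : e1 ^ 3 = 1 := cube_of k_e1
theorem e2_cube : e2 ^ 3 = 1 := cube_of k_e2
theorem e3_cube : e3 ^ 3 = 1 := cube_of k_e3
theorem tau_cube : tau ^ 3 = 1 := cube_of k_tau
theorem f1_cube : f1 ^ 3 = 1 := cube_of k_f1
theorem f2_cube : f2 ^ 3 = 1 := cube_of k_f2
theorem c12 : e1 * e2 = e2 * e1 := comm_of k_12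
theorem c13 : e1 * e3 = e3 * e1 := comm_of k_13
theorem c23 : e2 * e3 = e3 * e2 := comm_of k_23
theorem cff : f1 * f2 = f2 * f1 := comm_of k_ff
theorem c1f1 : e1 * f1 = f1 * e1 := comm_of k_e1f1
theorem c2f1 : e2 * f1 = f1 * e2 := comm_of k_e2f1
theorem c3f1 : e3 * f1 = f1 * e3 := comm_of k_e3f1
theorem c1f2 : e1 * f2 = f2 * e1 := comm_of k_e1f2
theorem c2f2 : e2 * f2 = f2 * e2 := comm_of k_e2f2
theorem c3f2 : e3 * f2 = f2 * e3 := comm_of k_e3f2

theorem Zc1 : Z * e1 = e1 * Z := by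
  have h := comm_of k_Ze1
  rwa [mw_z] at h
theorem Zc2 : Z * e2 = e2 * Z := by
  have h := comm_of k_Ze2
  rwa [mw_z] at h
theorem Zc3 : Z * e3 = e3 * Z := by
  have h := comm_of k_Ze3
  rwa [mw_z] at h
theorem Zct : Z * tau = tau * Z := by
  have h := comm_of k_Zt
  rwa [mw_z] at h

theorem t1 : tau * e1 = e2 * tau := by
  have h1 := mw_eq k_t1
  rwa [mw_append, mw_append] at h1
theorem t2 : tau * e2 = e3 * tau := by
  have h1 := mw_eq k_t2
  rwa [mw_append, mw_append] at h1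
theorem t3 : tau * e3 = e1 * tau := by
  have h1 := mw_eq k_t3
  rwa [mw_append, mw_append] at h1

theorem g_tau : gg * tau * gg⁻¹ = e2 * e3 := by
  rw [mul_inv_eq_iff_eq_mul]
  have h1 := mw_eq k_g
  rwa [mw_append, mw_append, mw_append] at h1

theorem Zf1 : Z * f1 = f1 * f1 * Z := by
  have h1 := mw_eq k_Zf1
  rwa [mw_append, mw_append, mw_append, mw_z] at h1
theorem Zf2 : Z * f2 = f2 * f2 * Z := by
  have h1 := mw_eq k_Zf2
  rwa [mw_append, mw_append, mw_append, mw_z] at h1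

instance finite_G3 : Finite G3 := Nat.finite_of_card_ne_zero (by rw [isCo3_G3.2]; norm_num)

theorem f1_ne : f1 ≠ 1 := mw_ne nf1
theorem e1_ne : e1 ≠ 1 := mw_ne n1
theorem e123_ne : e1 * e2 * e3 ≠ 1 := by
  have h := mw_ne n123
  rwa [mw_append, mw_append] at h

theorem all3 {P : ℕ → Bool} (h : ((List.range 3).all P) = true) {i : ℕ} (hi : i < 3) : P i = true :=
  List.all_eq_true.1 h i (List.mem_range.2 hi)

theorem e2_not (n : ℤ) : e2 ≠ e1 ^ n := by
  intro h
  obtain ⟨i, hi, h1⟩ := exists_pow_mul e1_cube n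
  have h2 := mw_ne (all3 n2 hi)
  rw [mw_append, mw_pw] at h2
  apply h2
  show e1 ^ i * e2 = 1
  rw [h, h1]

theorem e3_not (n m : ℤ) : e3 ≠ e1 ^ n * e2 ^ m := by
  intro h
  obtain ⟨i, hi, h1⟩ := exists_pow_mul e1_cube n
  obtain ⟨j, hj, h2⟩ := exists_pow_mul e2_cube m
  have h3 := mw_ne (all3 (all3 n3 hi) hj)
  rw [mw_append, mw_append, mw_pw, mw_pw] at h3
  apply h3
  show e1 ^ i * e2 ^ j * e3 = 1
  have h4 : Commute (e2 ^ j) (e1 ^ n) :=
    Commute.zpow_right (Commute.pow_left (show e2 * e1 = e1 * e2 from c12.symm) j) n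
  calc e1 ^ i * e2 ^ j * e3 = e1 ^ i * (e2 ^ j * e1 ^ n) * e2 ^ m := by rw [h]; simp only [mul_assoc]
    _ = (e1 ^ i * e1 ^ n) * (e2 ^ j * e2 ^ m) := by rw [h4.eq]; simp only [mul_assoc]
    _ = 1 := by rw [h1, h2, one_mul]

theorem f2_not (n : ℤ) : f2 ≠ f1 ^ n := by
  intro h
  obtain ⟨i, hi, h1⟩ := exists_pow_mul f1_cube n
  have h2 := mw_ne (all3 nf hi)
  rw [mw_append, mw_pw] at h2
  apply h2
  show f1 ^ i * f2 = 1
  rw [h, h1]

/-- `Z` inverts the powers of `f1` -/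
theorem Zf1_pow (n : ℤ) : Z * f1 ^ n = f1 ^ n * f1 ^ n * Z := by
  have h1 : Z * f1 * Z⁻¹ = f1 * f1 := mul_inv_eq_iff_eq_mul.2 Zf1
  have h2 : Z * f1 ^ n * Z⁻¹ = (Z * f1 * Z⁻¹) ^ n := conj_zpow.symm
  rw [← mul_inv_eq_iff_eq_mul, h2, h1, (Commute.refl f1).mul_zpow]

/-- **The subgroups.** -/
theorem exists_E : ∃ E0 E : Subgroup G3, El E0 ∧ El E ∧ E0 ≤ E ∧ 27 ≤ Nat.card ↥E0 ∧ 243 ≤ Nat.card ↥E ∧
    e1 ∈ E0 ∧ e2 ∈ E0 ∧ e3 ∈ E0 ∧ (∀ y ∈ E0, Z * y = y * Z) ∧
    ∀ y ∈ E0, ∃ a b c : ℤ, y = e1 ^ a * e2 ^ b * e3 ^ c := by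
  obtain ⟨E1, k1, -, m1, n1, d1⟩ := ext_step (el_bot (G := G3)) (x := e1) e1_cube
    (by intro a ha; rw [mem_bot.1 ha, one_mul, mul_one]) (by rw [mem_bot]; exact e1_ne)
  have d1' : ∀ y ∈ E1, ∃ a : ℤ, y = e1 ^ a := by
    intro y hy
    obtain ⟨a, ha, n, rfl⟩ := d1 y hy
    exact ⟨n, by rw [mem_bot.1 ha, one_mul]⟩
  obtain ⟨E2, k2, l2, m2, n2', d2⟩ := ext_step k1 (x := e2) e2_cube
    (by
      intro a ha
      obtain ⟨n, rfl⟩ := d1' a ha
      exact (Commute.zpow_right (show e2 * e1 = e1 * e2 from c12.symm) n).eq)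
    (by
      intro h
      obtain ⟨n, hn⟩ := d1' _ h
      exact e2_not n hn)
  have d2' : ∀ y ∈ E2, ∃ a b : ℤ, y = e1 ^ a * e2 ^ b := by
    intro y hy
    obtain ⟨a, ha, n, rfl⟩ := d2 y hy
    obtain ⟨m, rfl⟩ := d1' a ha
    exact ⟨m, n, rfl⟩
  obtain ⟨E3, k3, l3, m3, n3', d3⟩ := ext_step k2 (x := e3) e3_cube
    (by
      intro a ha
      obtain ⟨n, m, rfl⟩ := d2' a ha
      exact (Commute.mul_right (Commute.zpow_right (show e3 * e1 = e1 * e3 from c13.symm) n)
        (Commute.zpow_right (show e3 * e2 = e2 * e3 from c23.symm) m)).eq)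
    (by
      intro h
      obtain ⟨n, m, hn⟩ := d2' _ h
      exact e3_not n m hn)
  have d3' : ∀ y ∈ E3, ∃ a b c : ℤ, y = e1 ^ a * e2 ^ b * e3 ^ c := by
    intro y hy
    obtain ⟨a, ha, n, rfl⟩ := d3 y hy
    obtain ⟨m, l, rfl⟩ := d2' a ha
    exact ⟨m, l, n, rfl⟩
  have comm3 : ∀ g : G3, g * e1 = e1 * g → g * e2 = e2 * g → g * e3 = e3 * g → ∀ y ∈ E3, g * y = y * g := by
    intro g g1 g2 g3 y hy
    obtain ⟨a, b, c, rfl⟩ := d3' y hy
    exact (Commute.mul_right (Commute.mul_right (Commute.zpow_right (show Commute g e1 from g1) a)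
      (Commute.zpow_right (show Commute g e2 from g2) b)) (Commute.zpow_right (show Commute g e3 from g3) c)).eq
  have Z3 : ∀ y ∈ E3, Z * y = y * Z := comm3 Z Zc1 Zc2 Zc3
  have F3 : ∀ y ∈ E3, f1 * y = y * f1 := comm3 f1 c1f1.symm c2f1.symm c3f1.symm
  have F3' : ∀ y ∈ E3, f2 * y = y * f2 := comm3 f2 c1f2.symm c2f2.symm c3f2.symm
  obtain ⟨E4, k4, l4, m4, n4', d4⟩ := ext_step k3 (x := f1) f1_cube F3
    (by
      intro h
      have h1 := Z3 _ h
      rw [Zf1, mul_assoc] at h1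
      have h2 := mul_left_cancel h1
      have h3 : f1 * Z = 1 * Z := by rw [one_mul]; exact h2
      exact f1_ne (mul_right_cancel h3))
  obtain ⟨E5, k5, l5, m5, n5', d5⟩ := ext_step k4 (x := f2) f2_cube
    (by
      intro a ha
      obtain ⟨b, hb, n, rfl⟩ := d4 a ha
      exact (Commute.mul_right (show Commute f2 b from F3' b hb)
        (Commute.zpow_right (show Commute f2 f1 from cff.symm) n)).eq)
    (by
      intro h
      obtain ⟨b, hb, n, hn⟩ := d4 _ h
      have hbf : b * f1 ^ n = f1 ^ n * b := ((Commute.zpow_left (show Commute f1 b from F3 b hb) n).eq).symm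
      have h1 : Z * (b * f1 ^ n) = b * f1 ^ n * (b * f1 ^ n) * Z := by rw [← hn]; exact Zf2
      have h2 : b * f1 ^ n * (b * f1 ^ n) = b * b * (f1 ^ n * f1 ^ n) := by
        calc b * f1 ^ n * (b * f1 ^ n) = b * (f1 ^ n * b) * f1 ^ n := by simp only [mul_assoc]
          _ = b * b * (f1 ^ n * f1 ^ n) := by rw [← hbf]; simp only [mul_assoc]
      rw [h2, ← mul_assoc, Z3 b hb, mul_assoc, Zf1_pow] at h1
      have h3 : b * (f1 ^ n * f1 ^ n * Z) = b * (b * (f1 ^ n * f1 ^ n * Z)) :=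
        h1.trans (by simp only [mul_assoc])
      have h4 := mul_left_cancel h3
      have h5 : (1 : G3) * (f1 ^ n * f1 ^ n * Z) = b * (f1 ^ n * f1 ^ n * Z) := by rw [one_mul]; exact h4
      have h6 := mul_right_cancel h5
      rw [← h6, one_mul] at hn
      exact f2_not n hn)
  have hc0 : Nat.card ↥(⊥ : Subgroup G3) = 1 := Subgroup.card_bot
  refine ⟨E3, E5, k3, k5, l4.trans l5, by omega, by omega, l3 (l2 m1), l3 m2, m3, Z3, d3'⟩

/-! ### conjugacy -/

theorem card_cent {t : G3} {π : centralizer ({t} : Set G3) →* S} (N : NS (tC t) π) :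
    Nat.card ↥(centralizer ({t} : Set G3)) ∣ 2903040 := by
  have hker : Nat.card ↥π.ker ∣ 2 := by
    have h1 : (π.ker : Set ↥(centralizer ({t} : Set G3))) ⊆ {1, tC t} := fun d hd => N.ker _ hd
    have h3 := Set.ncard_le_ncard h1 (Set.toFinite _)
    rw [← Nat.card_coe_set_eq] at h3
    have h4 : Nat.card ↥π.ker ≤ 2 :=
      h3.trans (Set.ncard_insert_le _ _ |>.trans (by rw [Set.ncard_singleton]))
    have h5 : 0 < Nat.card ↥π.ker := Nat.card_pos
    interval_cases h6 : Nat.card ↥π.ker <;> norm_num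
  have h1 := (Sp.card_dvd_mul π).trans (mul_dvd_mul_right hker _)
  rw [card_S] at h1
  exact h1

/-- the shape of the elements of order 3 outside `E0` -/
theorem conj_tau {E0 : Subgroup G3} (hE : El E0) (h1 : e1 ∈ E0) (h2 : e2 ∈ E0) (h3 : e3 ∈ E0) {a b c : ℤ}
    (hx : (e1 ^ a * e2 ^ b * e3 ^ c * tau) ^ 3 = 1) : ∃ d : G3, d * tau * d⁻¹ = e1 ^ a * e2 ^ b * e3 ^ c * tau := by
  let _ : CommGroup ↥E0 :=
    { (inferInstance : Group ↥E0) with mul_comm := fun x y => Subtype.ext (hE.comm x x.2 y y.2) }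
  have T1 : tau * e1 * tau⁻¹ = e2 := mul_inv_eq_iff_eq_mul.2 t1
  have T2 : tau * e2 * tau⁻¹ = e3 := mul_inv_eq_iff_eq_mul.2 t2
  have T3 : tau * e3 * tau⁻¹ = e1 := mul_inv_eq_iff_eq_mul.2 t3
  have hconj : ∀ x y z : G3, tau * (x * y * z) * tau⁻¹ = (tau * x * tau⁻¹) * (tau * y * tau⁻¹) * (tau * z * tau⁻¹) := by
    intro x y z; group
  have hz : ∀ (x : G3) (n : ℤ), tau * x ^ n * tau⁻¹ = (tau * x * tau⁻¹) ^ n := fun x n => conj_zpow.symm
  have c1 : tau * (e1 ^ a * e2 ^ b * e3 ^ c) * tau⁻¹ = e2 ^ a * e3 ^ b * e1 ^ c := by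
    rw [hconj, hz, hz, hz, T1, T2, T3]
  have c2 : tau * (e2 ^ a * e3 ^ b * e1 ^ c) * tau⁻¹ = e3 ^ a * e1 ^ b * e2 ^ c := by
    rw [hconj, hz, hz, hz, T1, T2, T3]
  have hcube : (e1 * e2 * e3) ^ (a + b + c) = 1 := by
    have k1 : (e1 ^ a * e2 ^ b * e3 ^ c * tau) ^ 3 = e1 ^ a * e2 ^ b * e3 ^ c *
        (tau * (e1 ^ a * e2 ^ b * e3 ^ c) * tau⁻¹) * (tau * (tau * (e1 ^ a * e2 ^ b * e3 ^ c) * tau⁻¹) * tau⁻¹) *
        tau ^ 3 := by
      generalize e1 ^ a * e2 ^ b * e3 ^ c = y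
      simp only [pow_succ, pow_zero, one_mul, mul_assoc, inv_mul_cancel_left]
    rw [hx, c1, c2, tau_cube, mul_one] at k1
    have k2 := congrArg Subtype.val
      (comm_id (⟨e1, h1⟩ : ↥E0) (⟨e2, h2⟩ : ↥E0) (⟨e3, h3⟩ : ↥E0) a b c)
    exact (k1.trans k2).symm
  obtain ⟨k, hk⟩ : (3 : ℤ) ∣ a + b + c := by
    have k1 : orderOf (e1 * e2 * e3) = 3 := by
      have : Fact (Nat.Prime 3) := ⟨Nat.prime_three⟩
      exact orderOf_eq_prime (hE.exp _ (E0.mul_mem (E0.mul_mem h1 h2) h3)) e123_ne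
    have k2 := orderOf_dvd_iff_zpow_eq_one.2 hcube
    rwa [k1] at k2
  have hz3 : e3 ^ (a + b + c) = 1 := by
    rw [hk, zpow_mul]
    have k1 : e3 ^ (3 : ℤ) = 1 := by exact_mod_cast e3_cube
    rw [k1, one_zpow]
  refine ⟨e1 ^ a * e2 ^ (a + b), ?_⟩
  have k1 : e1 ^ a * e2 ^ (a + b) * tau * (e1 ^ a * e2 ^ (a + b))⁻¹ =
      e1 ^ a * e2 ^ (a + b) * (tau * (e1 ^ a * e2 ^ (a + b)) * tau⁻¹)⁻¹ * tau := by
    generalize e1 ^ a * e2 ^ (a + b) = y
    group
  have k2 : tau * (e1 ^ a * e2 ^ (a + b)) * tau⁻¹ = e2 ^ a * e3 ^ (a + b) := by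
    have k3 := hconj (e1 ^ a) (e2 ^ (a + b)) 1
    rw [mul_one, mul_one, mul_inv_cancel, mul_one, hz, hz, T1, T2] at k3
    exact k3
  have k3 := congrArg Subtype.val
    (comm_id2 (⟨e1, h1⟩ : ↥E0) (⟨e2, h2⟩ : ↥E0) (⟨e3, h3⟩ : ↥E0) a b c (Subtype.ext hz3))
  rw [k1, k2]
  congr 1

/-- **every element of order 3 of `C(Z)` is conjugate into `E0`** -/
theorem conj_E0 {E0 : Subgroup G3} (hE : El E0) (h27 : 27 ≤ Nat.card ↥E0) (h1 : e1 ∈ E0) (h2 : e2 ∈ E0)
    (h3 : e3 ∈ E0) (hZ : ∀ y ∈ E0, Z * y = y * Z) (hd : ∀ y ∈ E0, ∃ a b c : ℤ, y = e1 ^ a * e2 ^ b * e3 ^ c) {x : G3}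
    (hx : x ^ 3 = 1) (hxZ : x * Z = Z * x) : ∃ g : G3, g * x * g⁻¹ ∈ E0 := by
  obtain ⟨π, N⟩ := KFacts.Co3D4.exists_NS_G3
  have hτE : ∀ y ∈ E0, tau * y * tau⁻¹ ∈ E0 := by
    intro y hy
    obtain ⟨a, b, c, rfl⟩ := hd y hy
    have k1 : tau * (e1 ^ a * e2 ^ b * e3 ^ c) * tau⁻¹ =
        (tau * e1 * tau⁻¹) ^ a * (tau * e2 * tau⁻¹) ^ b * (tau * e3 * tau⁻¹) ^ c := by
      rw [conj_zpow, conj_zpow, conj_zpow]
      group
    rw [k1, mul_inv_eq_iff_eq_mul.2 t1, mul_inv_eq_iff_eq_mul.2 t2, mul_inv_eq_iff_eq_mul.2 t3]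
    exact E0.mul_mem (E0.mul_mem (E0.zpow_mem h2 a) (E0.zpow_mem h3 b)) (E0.zpow_mem h1 c)
  have hτ : tau ∉ E0 := by
    intro h
    have k1 : tau * e1 = e1 * tau := hE.comm _ h _ h1
    rw [t1] at k1
    have k2 := mul_right_cancel k1
    exact e2_not 1 (by rw [zpow_one]; exact k2)
  obtain ⟨T, hT, hET, hcT, hTe⟩ := tau_ext hE tau_cube hτE hτ
  -- conjugates of `tau` and its inverse
  have hconjτ : ∀ y : G3, (∃ d, d * tau * d⁻¹ = y) → ∃ g : G3, g * y * g⁻¹ ∈ E0 := by
    rintro _ ⟨d, rfl⟩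
    refine ⟨gg * d⁻¹, ?_⟩
    have k1 : gg * d⁻¹ * (d * tau * d⁻¹) * (gg * d⁻¹)⁻¹ = gg * tau * gg⁻¹ := by group
    rw [k1, g_tau]
    exact E0.mul_mem h2 h3
  have hinT : ∀ y ∈ T, y ^ 3 = 1 → ∃ g : G3, g * y * g⁻¹ ∈ E0 := by
    intro y hy hy3
    obtain ⟨a, ha, h | h | h⟩ := hTe y hy
    · exact ⟨1, by rw [h, one_mul, inv_one, mul_one]; exact ha⟩
    · obtain ⟨i, j, k, rfl⟩ := hd a ha
      rw [h] at hy3 ⊢
      exact hconjτ _ (conj_tau hE h1 h2 h3 hy3)
    · -- the inverse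
      have k1 : y⁻¹ = tau * a⁻¹ * tau⁻¹ * tau := by
        rw [inv_mul_cancel_right, h]
        have k2 : (tau * tau)⁻¹ = tau := by
          rw [inv_eq_iff_mul_eq_one]
          have := tau_cube
          rwa [pow_succ, pow_two] at this
        rw [mul_inv_rev, k2]
      obtain ⟨i, j, k, hk⟩ := hd _ (hτE _ (E0.inv_mem ha))
      rw [hk] at k1
      have hy3' : (y⁻¹) ^ 3 = 1 := by rw [inv_pow, hy3, inv_one]
      rw [k1] at hy3'
      obtain ⟨g, hg⟩ := hconjτ _ (conj_tau hE h1 h2 h3 hy3')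
      refine ⟨g, ?_⟩
      rw [← k1] at hg
      have k3 : g * y * g⁻¹ = (g * y⁻¹ * g⁻¹)⁻¹ := by group
      rw [k3]
      exact E0.inv_mem hg
  -- in the centralizer
  have hTC : T ≤ centralizer ({Z} : Set G3) := by
    intro y hy
    rw [mem_cent]
    obtain ⟨a, ha, h | h | h⟩ := hTe y hy
    · rw [h, hZ a ha]
    · rw [h]
      exact ((Commute.mul_right (show Commute Z a from hZ a ha) (show Commute Z tau from Zct)).eq).symm
    · rw [h]
      exact ((Commute.mul_right (show Commute Z a from hZ a ha)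
        (Commute.mul_right (show Commute Z tau from Zct) (show Commute Z tau from Zct))).eq).symm
  have hC : ¬ 3 ^ 5 ∣ Nat.card ↥(centralizer ({Z} : Set G3)) := by
    intro h
    have := h.trans (card_cent N)
    revert this
    norm_num
  obtain ⟨g, hg⟩ := conj_into (G := ↥(centralizer ({Z} : Set G3))) hC (T := T.subgroupOf _)
    (hT.of_equiv (Subgroup.subgroupOfEquivOfLe hTC).symm)
    (by
      rw [Nat.card_congr (Subgroup.subgroupOfEquivOfLe hTC).toEquiv]
      omega) (x := ⟨x, mem_cent.2 hxZ⟩) (Subtype.ext hx)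
  have hg' : (g : G3) * x * (g : G3)⁻¹ ∈ T := hg
  obtain ⟨k, hk⟩ := hinT _ hg' (by
    have k1 : ((g : G3) * x * (g : G3)⁻¹) ^ 3 = (g : G3) * x ^ 3 * (g : G3)⁻¹ := conj_pow
    rw [k1, hx, mul_one, mul_inv_cancel])
  refine ⟨k * g, ?_⟩
  have k1 : k * g * x * (k * (g : G3))⁻¹ = k * ((g : G3) * x * (g : G3)⁻¹) * k⁻¹ := by group
  rw [k1]
  exact hk

end Cfsg.Agent.CpAutCo3.TwoA

end

-- merged: Cfsg.Agent.CpAutCo3.Orbit
section

/-!
# Elementary abelian 3-subgroups of rank five and 2-subgroups of quotients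

`G` a finite group whose 2-local subgroups have 3-rank at most 3, `N ◁ H ≤ G` with `3 ∤ |N|`, `E ≤ H` elementary
abelian of order at least `3 ^ 5`: every `E`-invariant set of nontrivial 2-subgroups of `H / N` has cardinality
divisible by 9 (`false_of_orbit`).
-/

set_option autoImplicit false

namespace Cfsg.Agent.CpAutCo3.Orbit

open Subgroup Cfsg

/-- a 3-group acting on a finite set of cardinality not divisible by nine has a point stabiliser of index at most
three -/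
theorem exists_stab {P X : Type*} [Group P] [Finite P] [Finite X] [MulAction P X] (hP : IsPGroup 3 P)
    (h9 : ¬ 9 ∣ Nat.card X) : ∃ v : X, (MulAction.stabilizer P v).index ≤ 3 := by
  classical
  by_contra hcon
  push Not at hcon
  apply h9
  have : Fact (Nat.Prime 3) := ⟨Nat.prime_three⟩
  have hfin : Fintype X := Fintype.ofFinite X
  have hfinQ : Fintype (MulAction.orbitRel.Quotient P X) := Fintype.ofFinite _
  have e := MulAction.selfEquivSigmaOrbits P X
  rw [Nat.card_congr e, Nat.card_sigma]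
  apply Finset.dvd_sum
  intro ω _
  have h1 : Nat.card ↥(MulAction.orbit P (Quotient.out ω)) = (MulAction.stabilizer P (Quotient.out ω)).index := by
    rw [MulAction.index_stabilizer, Nat.card_coe_set_eq]
  rw [h1]
  obtain ⟨n, hn⟩ := hP.index (MulAction.stabilizer P (Quotient.out ω))
  have h2 := hcon (Quotient.out ω)
  rw [hn] at h2 ⊢
  rcases n with _ | _ | n
  · norm_num at h2
  · norm_num at h2
  · exact ⟨3 ^ n, by ring⟩

/-- a 3-group of exponent three of order at least 243, its subgroups of index at most three have order at least 81 -/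
theorem card_stab {P : Type*} [Group P] [Finite P] (h : 243 ≤ Nat.card P) (Q : Subgroup P) (hQ : Q.index ≤ 3) :
    81 ≤ Nat.card Q := by
  have h1 := Q.card_mul_index
  by_contra hcon
  push Not at hcon
  have h2 : Nat.card Q * Q.index ≤ 80 * 3 := Nat.mul_le_mul (by omega) hQ
  omega

/-- **no rank five** -/
theorem false_of_orbit {G : Type*} [Group G] [Finite G] (hT : TwoLocalPRankLE 3 3 G) (H : Subgroup G)
    (N : Subgroup ↥H) [N.Normal] (hN : ¬ 3 ∣ Nat.card ↥N) (E : Subgroup ↥H) (hc : ∀ a ∈ E, ∀ b ∈ E, a * b = b * a)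
    (he : ∀ a ∈ E, a ^ 3 = 1) (hcard : 243 ≤ Nat.card ↥E) (X : Set (Subgroup (↥H ⧸ N)))
    (hX : ∀ V ∈ X, IsPGroup 2 ↥V ∧ V ≠ ⊥)
    (hinv : ∀ e ∈ E, ∀ V ∈ X, V.map (MulAut.conj (QuotientGroup.mk' N e)).toMonoidHom ∈ X)
    (h9 : ¬ 9 ∣ X.ncard) : False := by
  have : Fact (Nat.Prime 3) := ⟨Nat.prime_three⟩
  have : Fact (Nat.Prime 2) := ⟨Nat.prime_two⟩
  have hE3 : IsPGroup 3 ↥E := fun a => ⟨1, Subtype.ext (by rw [pow_one]; exact he a a.2)⟩
  -- the action on `X`
  let _ : MulAction ↥E ↥X :=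
    { smul := fun e V => ⟨(V : Subgroup (↥H ⧸ N)).map (MulAut.conj (QuotientGroup.mk' N (e : ↥H))).toMonoidHom,
        hinv e e.2 V V.2⟩
      one_smul := by
        intro V
        apply Subtype.ext
        show (V : Subgroup (↥H ⧸ N)).map (MulAut.conj (QuotientGroup.mk' N ((1 : ↥E) : ↥H))).toMonoidHom = V
        rw [OneMemClass.coe_one, map_one, map_one]
        exact Subgroup.map_id _
      mul_smul := by
        intro a b V
        apply Subtype.ext
        show (V : Subgroup (↥H ⧸ N)).map (MulAut.conj (QuotientGroup.mk' N ((a * b : ↥E) : ↥H))).toMonoidHom =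
          ((V : Subgroup (↥H ⧸ N)).map (MulAut.conj (QuotientGroup.mk' N (b : ↥H))).toMonoidHom).map
            (MulAut.conj (QuotientGroup.mk' N (a : ↥H))).toMonoidHom
        rw [Subgroup.map_map, Subgroup.coe_mul, map_mul, map_mul]
        rfl }
  obtain ⟨⟨V, hV⟩, hi⟩ := exists_stab (P := ↥E) (X := ↥X) hE3 (by rwa [Nat.card_coe_set_eq])
  set S := MulAction.stabilizer ↥E (⟨V, hV⟩ : ↥X) with hS
  have h81 := card_stab hcard S hi
  -- as a subgroup of `H`
  let E2 : Subgroup ↥H := S.map E.subtype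
  have hE2c : Nat.card ↥E2 = Nat.card ↥S := (Nat.card_congr (S.equivMapOfInjective _ E.subtype_injective).toEquiv).symm
  have hE2E : E2 ≤ E := by
    rintro _ ⟨a, -, rfl⟩
    exact a.2
  have hE2V : ∀ e ∈ E2, ∀ u ∈ V, QuotientGroup.mk' N e * u * (QuotientGroup.mk' N e)⁻¹ ∈ V := by
    rintro _ ⟨a, ha, rfl⟩ u hu
    have h1 : a • (⟨V, hV⟩ : ↥X) = ⟨V, hV⟩ := ha
    have h2 : V.map (MulAut.conj (QuotientGroup.mk' N (a : ↥H))).toMonoidHom = V := congrArg Subtype.val h1
    rw [← h2]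
    exact ⟨u, hu, rfl⟩
  obtain ⟨hV2, hV1⟩ := hX V hV
  -- the preimage of `V`
  let P : Subgroup ↥H := V.comap (QuotientGroup.mk' N)
  have hNP : N ≤ P := fun n hn => by
    have h1 : QuotientGroup.mk' N n = 1 := (QuotientGroup.eq_one_iff n).2 hn
    show QuotientGroup.mk' N n ∈ V
    rw [h1]
    exact V.one_mem
  have hcP : Nat.card ↥P = Nat.card ↥N * Nat.card ↥V := QuotientGroup.card_preimage_mk N (V : Set (↥H ⧸ N))
  obtain ⟨m, hm⟩ := hV2.exists_card_eq
  have hm0 : m ≠ 0 := by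
    rintro rfl
    rw [pow_zero] at hm
    exact hV1 (Subgroup.card_eq_one.1 hm)
  have h3P : ¬ 3 ∣ Nat.card ↥P := by
    rw [hcP, hm]
    intro hd
    rcases Nat.prime_three.dvd_mul.1 hd with h | h
    · exact hN h
    · exact absurd ((Nat.prime_dvd_prime_iff_eq Nat.prime_three Nat.prime_two).1 (Nat.prime_three.dvd_of_dvd_pow h))
        (by norm_num)
  have hE2P : ∀ b ∈ E2, ∀ u ∈ P, b * u * b⁻¹ ∈ P := by
    intro b hb u hu
    have h1 := hE2V b hb _ hu
    show QuotientGroup.mk' N (b * u * b⁻¹) ∈ V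
    rw [map_mul, map_mul, map_inv]
    exact h1
  obtain ⟨Q, ⟨T, hTQ⟩, hQ⟩ := Lib.PGroupCoprimeAction.exists_invariant_sylow (A := E2) (H := P)
    (hE3.to_le hE2E) h3P hE2P 2
  have hQ2 : IsPGroup 2 ↥Q := by
    rw [← hTQ]
    exact T.isPGroup'.map _
  have hQ1 : Q ≠ ⊥ := by
    intro hb
    have h1 : (T : Subgroup ↥P) = ⊥ := by
      rw [← hTQ] at hb
      exact (Subgroup.map_eq_bot_iff_of_injective _ P.subtype_injective).1 hb
    have h2 : 2 ∣ Nat.card ↥P := by
      rw [hcP, hm]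
      exact Dvd.dvd.mul_left (dvd_pow_self 2 hm0) _
    have h3 := T.dvd_card_of_dvd_card h2
    rw [h1, Subgroup.card_bot] at h3
    norm_num at h3
  -- in `G`
  let R : Subgroup G := Q.map H.subtype
  have hR : IsTwoLocal (Subgroup.normalizer (R : Set G)) :=
    ⟨R, hQ2.map _, fun hb => hQ1 ((Subgroup.map_eq_bot_iff_of_injective _ H.subtype_injective).1 hb), rfl⟩
  let A : Subgroup G := E2.map H.subtype
  have hAR : A ≤ Subgroup.normalizer (R : Set G) := by
    rintro _ ⟨b, hb, rfl⟩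
    rw [Subgroup.mem_normalizer_iff]
    have key : ∀ c ∈ E2, ∀ u : G, u ∈ R → (c : G) * u * (c : G)⁻¹ ∈ R := by
      rintro c hc' _ ⟨u, hu, rfl⟩
      exact ⟨c * u * c⁻¹, hQ c hc' u hu, rfl⟩
    intro u
    constructor
    · exact key b hb u
    · intro hu
      have h1 := key b⁻¹ (E2.inv_mem hb) _ hu
      have h2 : ((b⁻¹ : ↥H) : G) * (H.subtype b * u * (H.subtype b)⁻¹) * ((b⁻¹ : ↥H) : G)⁻¹ = u := by
        show (b : G)⁻¹ * ((b : G) * u * (b : G)⁻¹) * ((b : G)⁻¹)⁻¹ = u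
        group
      rwa [h2] at h1
  have hcA : Nat.card ↥(A.subgroupOf (Subgroup.normalizer (R : Set G))) = Nat.card ↥S := by
    rw [Nat.card_congr (Subgroup.subgroupOfEquivOfLe hAR).toEquiv, ← hE2c]
    exact (Nat.card_congr (E2.equivMapOfInjective _ H.subtype_injective).toEquiv).symm
  have hle := hT _ hR (A.subgroupOf (Subgroup.normalizer (R : Set G))) ?_ ?_
  · rw [hcA] at hle
    omega
  · refine ⟨⟨fun a b => ?_⟩⟩
    obtain ⟨a', ha', ha⟩ := a.2
    obtain ⟨b', hb', hb⟩ := b.2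
    apply Subtype.ext
    apply Subtype.ext
    show ((a : ↥(Subgroup.normalizer (R : Set G))) : G) * ((b : ↥(Subgroup.normalizer (R : Set G))) : G) =
      ((b : ↥(Subgroup.normalizer (R : Set G))) : G) * ((a : ↥(Subgroup.normalizer (R : Set G))) : G)
    have e1 : ((a : ↥(Subgroup.normalizer (R : Set G))) : G) = (a' : G) := ha.symm
    have e2 : ((b : ↥(Subgroup.normalizer (R : Set G))) : G) = (b' : G) := hb.symm
    rw [e1, e2]
    exact congrArg Subtype.val (hc a' (hE2E ha') b' (hE2E hb'))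
  · intro a ha
    obtain ⟨a', ha', ha2⟩ := ha
    apply Subtype.ext
    have e1 : (a : G) = (a' : G) := ha2.symm
    show (a : G) ^ 3 = 1
    rw [e1]
    exact congrArg Subtype.val (he a' (hE2E ha'))

end Cfsg.Agent.CpAutCo3.Orbit

end

-- merged: Cfsg.Agent.CpAutCo3.Transfer
section

/-!
# Sets of 2-subgroups of a component and of its simple quotient

`kill` : `G` finite with 2-local subgroups of 3-rank at most 3, `x ∈ E ≤ G` elementary abelian of order `≥ 3 ^ 5`,
`H = C(x)` of order not divisible by 64, `L` a component of `H / O_{3'}(H)` of order divisible by 4: every finite set of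
nontrivial 2-subgroups of `L / Z(L)` invariant under the automorphisms of order three has cardinality divisible by 9.
-/

set_option autoImplicit false

namespace Cfsg.Agent.CpAutCo3.Transfer

open Subgroup Cfsg
open scoped commutatorElement
open Cfsg.Agent.SignalizersComponents

universe u

section

variable {Q : Type u} [Group Q] [Finite Q]

/-- the 2-subgroups of `L` over the members of `X` -/
def up (L : Subgroup Q) (X : Set (Subgroup (↥L ⧸ center ↥L))) : Set (Subgroup Q) :=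
  {V | ∃ W : Subgroup ↥L, IsPGroup 2 ↥W ∧ W.map (QuotientGroup.mk' (center ↥L)) ∈ X ∧ V = W.map L.subtype}

omit [Finite Q] in
theorem up_spec {L : Subgroup Q} {X : Set (Subgroup (↥L ⧸ center ↥L))} (hX : ∀ U ∈ X, U ≠ ⊥) {V : Subgroup Q}
    (hV : V ∈ up L X) : IsPGroup 2 ↥V ∧ V ≠ ⊥ := by
  obtain ⟨W, hW, hWX, rfl⟩ := hV
  refine ⟨hW.map _, fun hb => ?_⟩
  have h1 : W = ⊥ := (Subgroup.map_eq_bot_iff_of_injective _ L.subtype_injective).1 hb
  rw [h1, Subgroup.map_bot] at hWX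
  exact hX _ hWX rfl

theorem map_le_map {L : Type*} [Group L] [Finite L] (h2 : ¬ 2 ∣ Nat.card ↥(center L)) {W1 W2 : Subgroup L}
    (h1 : IsPGroup 2 ↥W1) (h1' : IsPGroup 2 ↥W2)
    (h : W1.map (QuotientGroup.mk' (center L)) ≤ W2.map (QuotientGroup.mk' (center L))) : W1 ≤ W2 := by
  intro w hw
  obtain ⟨v, hv, hvw⟩ := h ⟨w, hw, rfl⟩
  have hz : v⁻¹ * w ∈ center L := QuotientGroup.eq.1 hvw
  obtain ⟨a, ha⟩ := h1 ⟨w, hw⟩
  obtain ⟨b, hb⟩ := h1' ⟨v, hv⟩
  have ha' : w ^ 2 ^ a = 1 := congrArg Subtype.val ha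
  have hb' : v ^ 2 ^ b = 1 := congrArg Subtype.val hb
  have hw1 : w ^ 2 ^ (a + b) = 1 := by rw [pow_add, pow_mul, ha', one_pow]
  have hv1 : v ^ 2 ^ (a + b) = 1 := by rw [pow_add, mul_comm, pow_mul, hb', one_pow]
  have hcomm : Commute (v⁻¹ * w) v := (mem_center_iff.1 hz v).symm
  have h3 : w = (v⁻¹ * w) * v := by
    rw [hcomm.eq]; group
  have h4 : (v⁻¹ * w) ^ 2 ^ (a + b) = 1 := by
    have h5 : w ^ 2 ^ (a + b) = (v⁻¹ * w) ^ 2 ^ (a + b) * v ^ 2 ^ (a + b) := by
      conv_lhs => rw [h3]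
      rw [hcomm.mul_pow]
    rw [hw1, hv1, mul_one] at h5
    exact h5.symm
  have h5 : orderOf (v⁻¹ * w) ∣ Nat.card ↥(center L) := by
    have := orderOf_dvd_natCard (⟨v⁻¹ * w, hz⟩ : ↥(center L))
    rwa [Subgroup.orderOf_mk] at this
  have h6 : orderOf (v⁻¹ * w) ∣ 2 ^ (a + b) := orderOf_dvd_of_pow_eq_one h4
  have h7 : Nat.Coprime (2 ^ (a + b)) (Nat.card ↥(center L)) :=
    Nat.Coprime.pow_left _ ((Nat.Prime.coprime_iff_not_dvd Nat.prime_two).2 h2)
  have h8 : orderOf (v⁻¹ * w) = 1 := Nat.eq_one_of_dvd_coprimes h7 h6 h5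
  have h9 : v⁻¹ * w = 1 := orderOf_eq_one_iff.1 h8
  rw [h3, h9, one_mul]
  exact hv

theorem ncard_up {L : Subgroup Q} (h2 : ¬ 2 ∣ Nat.card ↥(center ↥L)) {X : Set (Subgroup (↥L ⧸ center ↥L))}
    (hX : ∀ U ∈ X, IsPGroup 2 ↥U) : (up L X).ncard = X.ncard := by
  have : Fact (Nat.Prime 2) := ⟨Nat.prime_two⟩
  let W : Set (Subgroup ↥L) := {W | IsPGroup 2 ↥W ∧ W.map (QuotientGroup.mk' (center ↥L)) ∈ X}
  have h1 : up L X = (fun U : Subgroup ↥L => U.map L.subtype) '' W := by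
    ext V
    constructor
    · rintro ⟨U, hU, hUX, rfl⟩
      exact ⟨U, ⟨hU, hUX⟩, rfl⟩
    · rintro ⟨U, ⟨hU, hUX⟩, rfl⟩
      exact ⟨U, hU, hUX, rfl⟩
  have h3 : X = (fun U : Subgroup ↥L => U.map (QuotientGroup.mk' (center ↥L))) '' W := by
    ext R
    constructor
    · intro hR
      obtain ⟨P, hP, hPR, -⟩ := SigZeroU5.exists_lift (center ↥L) le_rfl h2 (hX R hR)
      exact ⟨P, ⟨hP, by rw [hPR]; exact hR⟩, hPR⟩
    · rintro ⟨U, ⟨hU, hUX⟩, rfl⟩
      exact hUX
  rw [h1, h3, Set.ncard_image_of_injective _ (Subgroup.map_injective L.subtype_injective), Set.InjOn.ncard_image]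
  rintro A ⟨hA, -⟩ B ⟨hB, -⟩ hAB
  exact le_antisymm (map_le_map h2 hA hB (le_of_eq hAB)) (map_le_map h2 hB hA (le_of_eq hAB.symm))

omit [Finite Q] in
theorem up_inv {L : Subgroup Q} {X : Set (Subgroup (↥L ⧸ center ↥L))}
    (hinv : ∀ α : MulAut (↥L ⧸ center ↥L), α ^ 3 = 1 → ∀ U ∈ X, U.map α.toMonoidHom ∈ X) {q : Q} (hq : q ^ 3 = 1)
    (hL : L.map (MulAut.conj q).toMonoidHom = L) {V : Subgroup Q} (hV : V ∈ up L X) :
    V.map (MulAut.conj q).toMonoidHom ∈ up L X := by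
  obtain ⟨W, hW, hWX, rfl⟩ := hV
  let e : ↥L ≃* ↥L := ((MulAut.conj q).subgroupMap L).trans (MulEquiv.subgroupCongr hL)
  have he : ∀ y : ↥L, ((e y : ↥L) : Q) = q * y * q⁻¹ := fun y => rfl
  have hc : (center ↥L).map e.toMonoidHom = center ↥L :=
    Subgroup.characteristic_iff_map_eq.1 inferInstance e
  let α : MulAut (↥L ⧸ center ↥L) := QuotientGroup.congr (center ↥L) (center ↥L) e hc
  have hα : ∀ y : ↥L, α (QuotientGroup.mk' (center ↥L) y) = QuotientGroup.mk' (center ↥L) (e y) := fun y => rfl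
  have hα3 : α ^ 3 = 1 := by
    apply MulEquiv.ext
    intro y
    obtain ⟨y, rfl⟩ := QuotientGroup.mk'_surjective (center ↥L) y
    rw [pow_succ, pow_two, MulAut.mul_apply, MulAut.mul_apply, hα, hα, hα, MulAut.one_apply]
    congr 1
    apply Subtype.ext
    rw [he, he, he]
    have h1 : q * (q * (q * (y : Q) * q⁻¹) * q⁻¹) * q⁻¹ = q ^ 3 * y * (q ^ 3)⁻¹ := by
      rw [pow_succ, pow_two]
      simp only [mul_inv_rev, mul_assoc]
    rw [h1, hq, inv_one, mul_one, one_mul]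
  refine ⟨W.map e.toMonoidHom, hW.map _, ?_, ?_⟩
  · have h1 := hinv α hα3 _ hWX
    rw [Subgroup.map_map] at h1 ⊢
    exact h1
  · rw [Subgroup.map_map, Subgroup.map_map]
    rfl

end

/-! ### three components -/

section

variable {Q : Type u} [Group Q] [Finite Q]

/-- three pairwise commuting conjugate subgroups whose centres have odd order -/
theorem sixtyfour {L : Subgroup Q} (h4 : 4 ∣ Nat.card ↥L) (h2 : ¬ 2 ∣ Nat.card ↥(center ↥L)) {a b : Q}
    (h12 : ⁅L, L.map (MulAut.conj a).toMonoidHom⁆ = ⊥) (h13 : ⁅L, L.map (MulAut.conj b).toMonoidHom⁆ = ⊥)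
    (h23 : ⁅L.map (MulAut.conj a).toMonoidHom, L.map (MulAut.conj b).toMonoidHom⁆ = ⊥) : 64 ∣ Nat.card Q := by
  have : Fact (Nat.Prime 2) := ⟨Nat.prime_two⟩
  obtain ⟨T⟩ : Nonempty (Sylow 2 ↥L) := inferInstance
  have hT4 : 4 ∣ Nat.card ↥(T : Subgroup ↥L) := by
    have h5 : 2 ^ 2 ∣ Nat.card ↥L := h4
    have h6 := (Nat.prime_two.pow_dvd_iff_le_factorization Nat.card_pos.ne').1 h5
    rw [T.card_eq_multiplicity]
    exact pow_dvd_pow 2 h6
  let S : Subgroup Q := (T : Subgroup ↥L).map L.subtype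
  have hSL : S ≤ L := by
    rintro _ ⟨x, -, rfl⟩
    exact x.2
  have hS2 : IsPGroup 2 ↥S := T.isPGroup'.map _
  have hcS : Nat.card ↥S = Nat.card ↥(T : Subgroup ↥L) :=
    (Nat.card_congr ((T : Subgroup ↥L).equivMapOfInjective _ L.subtype_injective).toEquiv).symm
  have h1c : ∀ x ∈ L, ∀ y ∈ L, x * (a * y * a⁻¹) = a * y * a⁻¹ * x := by
    intro x hx y hy
    have h5 : ⁅x, a * y * a⁻¹⁆ ∈ ⁅L, L.map (MulAut.conj a).toMonoidHom⁆ := commutator_mem_commutator hx ⟨y, hy, rfl⟩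
    rw [h12, mem_bot, commutatorElement_eq_one_iff_mul_comm] at h5
    exact h5
  have h2c : ∀ x ∈ L, ∀ y ∈ L, x * (b * y * b⁻¹) = b * y * b⁻¹ * x := by
    intro x hx y hy
    have h5 : ⁅x, b * y * b⁻¹⁆ ∈ ⁅L, L.map (MulAut.conj b).toMonoidHom⁆ := commutator_mem_commutator hx ⟨y, hy, rfl⟩
    rw [h13, mem_bot, commutatorElement_eq_one_iff_mul_comm] at h5
    exact h5
  have h3c : ∀ x ∈ L, ∀ y ∈ L, (a * x * a⁻¹) * (b * y * b⁻¹) = b * y * b⁻¹ * (a * x * a⁻¹) := by
    intro x hx y hy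
    have h5 : ⁅a * x * a⁻¹, b * y * b⁻¹⁆ ∈ ⁅L.map (MulAut.conj a).toMonoidHom, L.map (MulAut.conj b).toMonoidHom⁆ :=
      commutator_mem_commutator ⟨x, hx, rfl⟩ ⟨y, hy, rfl⟩
    rw [h23, mem_bot, commutatorElement_eq_one_iff_mul_comm] at h5
    exact h5
  -- an element of `S` centralizing `L` is trivial
  have key : ∀ x ∈ S, (∀ y ∈ L, x * y = y * x) → x = 1 := by
    intro x hx hxy
    have h5 : (⟨x, hSL hx⟩ : ↥L) ∈ center ↥L := by
      rw [mem_center_iff]
      intro y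
      exact Subtype.ext (hxy y y.2).symm
    obtain ⟨k, hk⟩ := hS2 ⟨x, hx⟩
    have hk' : x ^ 2 ^ k = 1 := congrArg Subtype.val hk
    have h6 := orderOf_dvd_natCard (⟨⟨x, hSL hx⟩, h5⟩ : ↥(center ↥L))
    rw [Subgroup.orderOf_mk, Subgroup.orderOf_mk] at h6
    have h7 : Nat.Coprime (2 ^ k) (Nat.card ↥(center ↥L)) :=
      Nat.Coprime.pow_left _ ((Nat.Prime.coprime_iff_not_dvd Nat.prime_two).2 h2)
    exact orderOf_eq_one_iff.1 (Nat.eq_one_of_dvd_coprimes h7 (orderOf_dvd_of_pow_eq_one hk') h6)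
  let fa : ↥S →* Q := (MulAut.conj a).toMonoidHom.comp S.subtype
  let fb : ↥S →* Q := (MulAut.conj b).toMonoidHom.comp S.subtype
  have hfa : ∀ s : ↥S, fa s = a * s * a⁻¹ := fun s => rfl
  have hfb : ∀ s : ↥S, fb s = b * s * b⁻¹ := fun s => rfl
  have hia : Function.Injective fa := (MulAut.conj a).injective.comp S.subtype_injective
  have hib : Function.Injective fb := (MulAut.conj b).injective.comp S.subtype_injective
  let f1 : ↥S × ↥S →* Q := MonoidHom.noncommCoprod S.subtype fa (fun m n => h1c m (hSL m.2) n (hSL n.2))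
  have hf1 : ∀ p : ↥S × ↥S, f1 p = (p.1 : Q) * (a * p.2 * a⁻¹) := fun p => rfl
  have hi1 : Function.Injective f1 := by
    refine (MonoidHom.noncommCoprod_injective _ _ _).2 ⟨S.subtype_injective, hia, ?_⟩
    rw [disjoint_iff, eq_bot_iff]
    rintro _ ⟨⟨s, rfl⟩, ⟨t, ht⟩⟩
    rw [mem_bot]
    apply key _ s.2
    intro y hy
    have h5 : (s : Q) = a * t * a⁻¹ := by rw [← hfa, ht]; rfl
    show (s : Q) * y = y * s
    rw [h5]
    exact (h1c y hy t (hSL t.2)).symm
  let f2 : (↥S × ↥S) × ↥S →* Q := MonoidHom.noncommCoprod f1 fb (fun m n => by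
    show f1 m * fb n = fb n * f1 m
    rw [hf1, hfb, mul_assoc, h3c _ (hSL m.2.2) _ (hSL n.2), ← mul_assoc, h2c _ (hSL m.1.2) _ (hSL n.2), mul_assoc])
  have hi2 : Function.Injective f2 := by
    refine (MonoidHom.noncommCoprod_injective _ _ _).2 ⟨hi1, hib, ?_⟩
    rw [disjoint_iff, eq_bot_iff]
    rintro _ ⟨⟨p, rfl⟩, ⟨t, ht⟩⟩
    rw [mem_bot]
    have h5 : f1 p = b * t * b⁻¹ := by rw [← hfb, ht]
    have h6 : (t : Q) = 1 := by
      apply key _ t.2
      intro y hy
      have h7 : f1 p * (b * y * b⁻¹) = (b * y * b⁻¹) * f1 p := by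
        rw [hf1, mul_assoc, h3c _ (hSL p.2.2) _ hy, ← mul_assoc, h2c _ (hSL p.1.2) _ hy, mul_assoc]
      rw [h5] at h7
      have h8 : b * ((t : Q) * y) * b⁻¹ = b * (y * t) * b⁻¹ := by
        calc b * ((t : Q) * y) * b⁻¹ = b * t * b⁻¹ * (b * y * b⁻¹) := by group
          _ = b * y * b⁻¹ * (b * t * b⁻¹) := h7
          _ = _ := by group
      exact mul_left_cancel (mul_right_cancel h8)
    rw [h5, h6, mul_one, mul_inv_cancel]
  have h7 : Nat.card ((↥S × ↥S) × ↥S) ∣ Nat.card Q := Subgroup.card_dvd_of_injective f2 hi2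
  rw [Nat.card_prod, Nat.card_prod, hcS] at h7
  obtain ⟨k, hk⟩ := hT4
  refine dvd_trans ⟨k * k * k, ?_⟩ h7
  rw [hk]
  ring

end

end Cfsg.Agent.CpAutCo3.Transfer

end

-- merged: Cfsg.Agent.CpAutCo3.Kill
section

/-!
# Components of centralizers of elements in an elementary abelian group of order `≥ 3 ^ 5`

`kill` : `G` finite with 2-local subgroups of 3-rank at most 3, `x ∈ E ≤ G` elementary abelian of order `≥ 3 ^ 5`,
`H = C(x)` of order not divisible by 64, `L` a component of `H / O_{3'}(H)` of order divisible by 4: every finite set of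
nontrivial 2-subgroups of `L / Z(L)` invariant under the automorphisms of order three has cardinality divisible by 9.
-/

set_option autoImplicit false

namespace Cfsg.Agent.CpAutCo3.Kill

open Subgroup Cfsg
open Cfsg.Agent.SignalizersComponents
open Cfsg.Agent.CpAutCo3.Transfer

universe u

section

variable {Q : Type u} [Group Q]

theorem map_conj_conj (L : Subgroup Q) (a b : Q) :
    (L.map (MulAut.conj a).toMonoidHom).map (MulAut.conj b).toMonoidHom = L.map (MulAut.conj (b * a)).toMonoidHom := by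
  rw [Subgroup.map_map, map_mul]
  rfl

/-- an element of order three normalizes a component, when 64 does not divide the order -/
theorem normalizes [Finite Q] {L : Subgroup Q} (hL : IsComponent L) (h4 : 4 ∣ Nat.card ↥L)
    (h2 : ¬ 2 ∣ Nat.card ↥(center ↥L)) (h64 : ¬ 64 ∣ Nat.card Q) {q : Q} (hq : q ^ 3 = 1) :
    L.map (MulAut.conj q).toMonoidHom = L := by
  by_contra hne
  have h1 : L.map (MulAut.conj (q * q)).toMonoidHom ≠ L := by
    intro h
    apply hne
    have h5 : (L.map (MulAut.conj (q * q)).toMonoidHom).map (MulAut.conj (q * q)).toMonoidHom = L := by rw [h, h]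
    rw [map_conj_conj] at h5
    have h6 : q * q * (q * q) = q := by
      have h7 : q * q * (q * q) = q ^ 3 * q := by rw [pow_succ, pow_two, mul_assoc, mul_assoc, mul_assoc]
      rw [h7, hq, one_mul]
    rwa [h6] at h5
  have h3 : L.map (MulAut.conj q).toMonoidHom ≠ L.map (MulAut.conj (q * q)).toMonoidHom := by
    intro h
    rw [← map_conj_conj L q q] at h
    exact hne (Subgroup.map_injective (MulAut.conj q).injective h).symm
  have hq1 := Components.isComponent_conj q hL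
  have hq2 := Components.isComponent_conj (q * q) hL
  exact h64 (sixtyfour h4 h2 (DistinctComponents.distinct_components_commute hL hq1 (Ne.symm hne))
    (DistinctComponents.distinct_components_commute hL hq2 (Ne.symm h1))
    (DistinctComponents.distinct_components_commute hq1 hq2 h3))

end

/-- **the criterion** -/
theorem kill {G : Type u} [Group G] [Finite G] (hT : TwoLocalPRankLE 3 3 G) {x : G} {E : Subgroup G}
    (hc : ∀ a ∈ E, ∀ b ∈ E, a * b = b * a) (he : ∀ a ∈ E, a ^ 3 = 1) (hcard : 243 ≤ Nat.card ↥E) (hx : x ∈ E)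
    (h64 : ¬ 64 ∣ Nat.card ↥(centralizer ({x} : Set G)))
    {L : Subgroup (↥(centralizer ({x} : Set G)) ⧸ pPrimeCore 3 ↥(centralizer ({x} : Set G)))} (hL : IsComponent L)
    (h4 : 4 ∣ Nat.card ↥L) (X : Set (Subgroup (↥L ⧸ center ↥L))) (hX : ∀ U ∈ X, IsPGroup 2 ↥U ∧ U ≠ ⊥)
    (hinv : ∀ α : MulAut (↥L ⧸ center ↥L), α ^ 3 = 1 → ∀ U ∈ X, U.map α.toMonoidHom ∈ X) (h9 : ¬ 9 ∣ X.ncard) :
    False := by
  have : Fact (Nat.Prime 3) := ⟨Nat.prime_three⟩
  have hn := Lib.Cores.pPrimeCore_normal (G := ↥(centralizer ({x} : Set G))) 3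
  have h3 : ¬ 3 ∣ Nat.card ↥(pPrimeCore 3 ↥(centralizer ({x} : Set G))) :=
    (Nat.Prime.coprime_iff_not_dvd Nat.prime_three).1 (Lib.Cores.pPrimeCore_coprime 3).symm
  have hZ : ¬ 2 ∣ Nat.card ↥(center ↥L) := by
    obtain ⟨n, hn⟩ := (CpAut.isPGroup_center_comp (by norm_num) L hL).exists_card_eq
    rw [hn]
    intro hd
    exact absurd ((Nat.prime_dvd_prime_iff_eq Nat.prime_two Nat.prime_three).1 (Nat.prime_two.dvd_of_dvd_pow hd))
      (by norm_num)
  have hEH : E ≤ centralizer ({x} : Set G) := fun e he' =>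
    mem_centralizer_singleton_iff.2 (hc e he' x hx)
  have h64' : ¬ 64 ∣ Nat.card (↥(centralizer ({x} : Set G)) ⧸ pPrimeCore 3 ↥(centralizer ({x} : Set G))) :=
    fun h => h64 (h.trans (card_quotient_dvd_card _))
  refine Orbit.false_of_orbit hT (centralizer ({x} : Set G)) (pPrimeCore 3 ↥(centralizer ({x} : Set G))) h3
    (E.subgroupOf (centralizer ({x} : Set G))) ?_ ?_ ?_ (up L X) ?_ ?_ ?_
  · intro a ha b hb
    exact Subtype.ext (hc a ha b hb)
  · intro a ha
    exact Subtype.ext (he a ha)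
  · rw [Nat.card_congr (Subgroup.subgroupOfEquivOfLe hEH).toEquiv]
    exact hcard
  · exact fun V hV => up_spec (fun U hU => (hX U hU).2) hV
  · intro e he' V hV
    have hq : (QuotientGroup.mk' (pPrimeCore 3 ↥(centralizer ({x} : Set G))) e) ^ 3 = 1 := by
      rw [← map_pow]
      have h5 : e ^ 3 = 1 := Subtype.ext (he e he')
      rw [h5, map_one]
    exact up_inv hinv hq (normalizes hL h4 hZ h64' hq) hV
  · rw [ncard_up hZ (fun U hU => (hX U hU).1)]
    exact h9

end Cfsg.Agent.CpAutCo3.Kill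

end

-- merged: Cfsg.Agent.CpAutCo3.Count
section

/-!
# Sets of 2-subgroups of cardinality not divisible by nine

`Bad K` : `K` has a set of nontrivial 2-subgroups, invariant under all automorphisms of order three, whose cardinality
is not divisible by 9. `bad_of_nine` (`9 ∤ |K|`), `bad_alt_seven`, `bad_alt_six`, `bad_psu` (`U₃(5)`).
-/

set_option autoImplicit false

namespace Cfsg.Agent.CpAutCo3.Count

open Subgroup Cfsg

/-- a set of 2-subgroups excluded by `Kill.kill` -/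
def Bad (K : Type*) [Group K] : Prop :=
  ∃ X : Set (Subgroup K), (∀ U ∈ X, IsPGroup 2 ↥U ∧ U ≠ ⊥) ∧
    (∀ α : MulAut K, α ^ 3 = 1 → ∀ U ∈ X, U.map α.toMonoidHom ∈ X) ∧ ¬ 9 ∣ X.ncard

theorem Bad.congr {K L : Type*} [Group K] [Group L] (e : K ≃* L) (h : Bad K) : Bad L := by
  obtain ⟨X, hX, hinv, h9⟩ := h
  have hmap : ∀ (U : Subgroup K) (α : MulAut L), (U.map e.toMonoidHom).map α.toMonoidHom =
      (U.map ((MulAut.congr e.symm α : MulAut K)).toMonoidHom).map e.toMonoidHom := by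
    intro U α
    rw [Subgroup.map_map, Subgroup.map_map]
    congr 1
    ext y
    show α (e y) = e (e.symm (α (e.symm.symm y)))
    rw [e.apply_symm_apply]
    rfl
  refine ⟨(fun U => U.map e.toMonoidHom) '' X, ?_, ?_, ?_⟩
  · rintro _ ⟨U, hU, rfl⟩
    refine ⟨(hX U hU).1.map _, fun h => (hX U hU).2 ((Subgroup.map_eq_bot_iff_of_injective _ e.injective).1 h)⟩
  · rintro α hα _ ⟨U, hU, rfl⟩
    refine ⟨U.map ((MulAut.congr e.symm α : MulAut K)).toMonoidHom, hinv _ ?_ U hU, (hmap U α).symm⟩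
    rw [← map_pow, hα, map_one]
  · rw [Set.ncard_image_of_injective _ (Subgroup.map_injective e.injective)]
    exact h9

theorem bad_of_nine {K : Type*} [Group K] [Finite K] (h2 : 2 ∣ Nat.card K) (h9 : ¬ 9 ∣ Nat.card K) : Bad K := by
  have : Fact (Nat.Prime 2) := ⟨Nat.prime_two⟩
  refine ⟨Set.range (fun T : Sylow 2 K => (T : Subgroup K)), ?_, ?_, ?_⟩
  · rintro _ ⟨T, rfl⟩
    refine ⟨T.isPGroup', fun (h : (T : Subgroup K) = ⊥) => ?_⟩
    have h3 := T.dvd_card_of_dvd_card h2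
    rw [h, Subgroup.card_bot] at h3
    norm_num at h3
  · rintro α - _ ⟨T, rfl⟩
    have h1 : Nat.card ↥((T : Subgroup K).map α.toMonoidHom) = Nat.card ↥(T : Subgroup K) :=
      (Nat.card_congr ((T : Subgroup K).equivMapOfInjective _ α.injective).toEquiv).symm
    exact ⟨Sylow.ofCard ((T : Subgroup K).map α.toMonoidHom) (by rw [h1, T.card_eq_multiplicity]), rfl⟩
  · rw [Set.ncard_range_of_injective]
    · intro h
      obtain ⟨T⟩ : Nonempty (Sylow 2 K) := inferInstance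
      exact h9 ((h.trans (Sylow.card_dvd_index T)).trans (Subgroup.index_dvd_card _))
    · intro T T' h
      exact Sylow.ext h

section orbit

variable {Γ K : Type*} [Group Γ] [Finite Γ] [Group K]

omit [Finite Γ] in
/-- the orbit of a subgroup normalized by an element of order three -/
theorem orbit_not_nine (φ : Γ →* MulAut K) (h27 : ¬ 27 ∣ Nat.card Γ) (V0 : Subgroup K) (γ : Γ)
    (h3 : orderOf γ = 3) (hγ : V0.map (φ γ).toMonoidHom = V0) :
    ¬ 9 ∣ (Set.range fun γ : Γ => V0.map (φ γ).toMonoidHom).ncard := by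
  let _ : MulAction Γ (Subgroup K) :=
    { smul := fun g V => V.map (φ g).toMonoidHom
      one_smul := by
        intro V
        show V.map (φ 1).toMonoidHom = V
        rw [map_one]
        exact Subgroup.map_id _
      mul_smul := by
        intro a b V
        show V.map (φ (a * b)).toMonoidHom = (V.map (φ b).toMonoidHom).map (φ a).toMonoidHom
        rw [Subgroup.map_map, map_mul]
        rfl }
  have h1 : (Set.range fun γ : Γ => V0.map (φ γ).toMonoidHom) = MulAction.orbit Γ V0 := rfl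
  rw [h1, ← MulAction.index_stabilizer]
  intro h9
  apply h27
  have h5 : 3 ∣ Nat.card ↥(MulAction.stabilizer Γ V0) := by
    have h6 : γ ∈ MulAction.stabilizer Γ V0 := hγ
    have h7 := orderOf_dvd_natCard (⟨γ, h6⟩ : ↥(MulAction.stabilizer Γ V0))
    rwa [Subgroup.orderOf_mk, h3] at h7
  rw [← (MulAction.stabilizer Γ V0).card_mul_index]
  exact mul_dvd_mul h5 h9

/-- all involutions in one orbit of a group whose order is not divisible by 27 -/
theorem bad_of_inv (φ : Γ →* MulAut K) (h27 : ¬ 27 ∣ Nat.card Γ) (t : K) (ht : orderOf t = 2) (γ : Γ)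
    (h3 : orderOf γ = 3) (hγ : φ γ t = t) (hall : ∀ s : K, orderOf s = 2 → ∃ γ : Γ, φ γ t = s) : Bad K := by
  refine ⟨Set.range fun γ : Γ => (zpowers t).map (φ γ).toMonoidHom, ?_, ?_, ?_⟩
  · rintro _ ⟨g, rfl⟩
    refine ⟨IsPGroup.map ?_ _, ?_⟩
    · exact IsPGroup.of_card (n := 1) (by rw [Nat.card_zpowers, ht, pow_one])
    · intro h
      have h1 := (Subgroup.map_eq_bot_iff_of_injective _ (φ g).injective).1 h
      rw [Subgroup.zpowers_eq_bot] at h1
      rw [h1, orderOf_one] at ht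
      norm_num at ht
  · rintro α - _ ⟨g, rfl⟩
    have h1 : orderOf (α (φ g t)) = 2 := by
      rw [MulEquiv.orderOf_eq, MulEquiv.orderOf_eq, ht]
    obtain ⟨g', hg'⟩ := hall _ h1
    refine ⟨g', ?_⟩
    show (zpowers t).map (φ g').toMonoidHom = ((zpowers t).map (φ g).toMonoidHom).map α.toMonoidHom
    rw [MonoidHom.map_zpowers, MonoidHom.map_zpowers, MonoidHom.map_zpowers]
    exact congrArg zpowers hg'
  · refine orbit_not_nine φ h27 _ γ h3 ?_
    rw [MonoidHom.map_zpowers]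
    exact congrArg zpowers hγ

end orbit

/-! ### `A₇` -/

section seven

open Equiv

/-- conjugation by permutations -/
def conjAlt (n : ℕ) : Perm (Fin n) →* MulAut ↥(alternatingGroup (Fin n)) := MulAut.conjNormal

theorem conjAlt_apply {n : ℕ} (σ : Perm (Fin n)) (x : ↥(alternatingGroup (Fin n))) :
    ((conjAlt n σ x : ↥(alternatingGroup (Fin n))) : Perm (Fin n)) = σ * x * σ⁻¹ := rfl

/-- an involution of `A₇` -/
def t7 : ↥(alternatingGroup (Fin 7)) := ⟨swap 0 1 * swap 2 3, Perm.mem_alternatingGroup.2 (by decide +kernel)⟩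

theorem t7_mul : t7 * t7 = 1 := by decide +kernel

theorem t7_ne : t7 ≠ 1 := by decide +kernel

theorem order_t7 : orderOf t7 = 2 := orderOf_eq_prime (by rw [pow_two, t7_mul]) t7_ne

theorem bad_seven : Bad ↥(alternatingGroup (Fin 7)) := by
  refine bad_of_inv (conjAlt 7) ?_ t7 order_t7 (swap 4 5 * swap 5 6) ?_ ?_ ?_
  · rw [Nat.card_eq_fintype_card, Fintype.card_perm, Fintype.card_fin]
    decide
  · exact orderOf_eq_prime (by decide +kernel) (by decide +kernel)
  · exact Subtype.ext (by rw [conjAlt_apply]; decide +kernel)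
  · intro s hs
    have hs2 : (s : Perm (Fin 7)) ^ 2 = 1 := by
      have h := congrArg Subtype.val (pow_orderOf_eq_one s)
      rw [hs] at h
      exact h
    have hs1 : (s : Perm (Fin 7)) ≠ 1 := by
      intro h
      have h' : s = 1 := Subtype.ext h
      rw [h', orderOf_one] at hs
      norm_num at hs
    have : Fact (Nat.Prime 2) := ⟨Nat.prime_two⟩
    have hos : orderOf (s : Perm (Fin 7)) = 2 := orderOf_eq_prime hs2 hs1
    obtain ⟨n, hn⟩ := Perm.cycleType_prime_order (σ := (s : Perm (Fin 7))) (by rw [hos]; exact Nat.prime_two)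
    rw [hos] at hn
    have h7 := Perm.sum_cycleType (s : Perm (Fin 7))
    have h8 : (s : Perm (Fin 7)).support.card ≤ 7 := by
      have := Finset.card_le_univ (s : Perm (Fin 7)).support
      rwa [Fintype.card_fin] at this
    rw [← h7, hn, Multiset.sum_replicate, smul_eq_mul] at h8
    have hsg := Perm.sign_of_cycleType (s : Perm (Fin 7))
    rw [Perm.mem_alternatingGroup.1 s.2, hn, Multiset.sum_replicate, Multiset.card_replicate] at hsg
    have hn1 : n = 1 := by
      have : n ≤ 2 := by omega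
      interval_cases n
      · exfalso
        revert hsg
        decide
      · rfl
      · exfalso
        revert hsg
        decide
    subst hn1
    have ht : (t7 : Perm (Fin 7)).cycleType = Multiset.replicate 2 2 := by decide +kernel
    have h9 : IsConj (t7 : Perm (Fin 7)) s := Perm.isConj_iff_cycleType_eq.2 (by rw [ht, hn])
    obtain ⟨c, hc⟩ := isConj_iff.1 h9
    exact ⟨c, Subtype.ext hc⟩

end seven

/-! ### `A₆` -/

section six

open Equiv Cfsg.Agent.StdAlt.Six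

theorem ns_of_cube {α : MulAut A6} (h : α ^ 3 = 1) : NS α := by
  by_contra hn
  have h1 := (NS.mul_of_not hn hn).inv
  have h2 : (α * α)⁻¹ = α := by
    rw [inv_eq_iff_mul_eq_one, ← h, pow_succ, pow_two]
  rw [h2] at h1
  exact hn h1

/-- a four-group -/
def V0 : Subgroup A6 where
  carrier := {x | x = 1 ∨ x = Z0 ∨ x = A0 ∨ x = A0 * Z0}
  one_mem' := Or.inl rfl
  mul_mem' := by
    rintro a b (rfl | rfl | rfl | rfl) (rfl | rfl | rfl | rfl) <;>
      (simp only [Set.mem_ofPred_eq]; decide +kernel)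
  inv_mem' := by
    rintro a (rfl | rfl | rfl | rfl) <;> (simp only [Set.mem_ofPred_eq]; decide +kernel)

theorem mem_V0 {x : A6} : x ∈ V0 ↔ x = 1 ∨ x = Z0 ∨ x = A0 ∨ x = A0 * Z0 := Iff.rfl

theorem V0_conj : V0.map (conjAlt 6 c0).toMonoidHom = V0 := by
  have h1 : conjAlt 6 c0 Z0 = A0 := Subtype.ext conjV_c0.1
  have h2 : conjAlt 6 c0 A0 = A0 * Z0 := Subtype.ext conjV_c0.2
  have h3 : conjAlt 6 c0 (A0 * Z0) = Z0 := by
    rw [map_mul, h1, h2]
    decide +kernel
  ext x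
  rw [Subgroup.mem_map]
  constructor
  · rintro ⟨y, hy, rfl⟩
    rcases mem_V0.1 hy with rfl | rfl | rfl | rfl
    · exact mem_V0.2 (Or.inl (map_one _))
    · exact mem_V0.2 (Or.inr (Or.inr (Or.inl h1)))
    · exact mem_V0.2 (Or.inr (Or.inr (Or.inr h2)))
    · exact mem_V0.2 (Or.inr (Or.inl h3))
  · intro hx
    rcases mem_V0.1 hx with rfl | rfl | rfl | rfl
    · exact ⟨1, V0.one_mem, map_one _⟩
    · exact ⟨A0 * Z0, mem_V0.2 (Or.inr (Or.inr (Or.inr rfl))), h3⟩
    · exact ⟨Z0, mem_V0.2 (Or.inr (Or.inl rfl)), h1⟩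
    · exact ⟨A0, mem_V0.2 (Or.inr (Or.inr (Or.inl rfl))), h2⟩

theorem bad_six : Bad A6 := by
  refine ⟨Set.range fun γ : Perm (Fin 6) => V0.map (conjAlt 6 γ).toMonoidHom, ?_, ?_, ?_⟩
  · rintro _ ⟨g, rfl⟩
    refine ⟨IsPGroup.map (fun x => ⟨1, ?_⟩) _, ?_⟩
    · apply Subtype.ext
      rw [pow_one, pow_two]
      show (x : A6) * x = 1
      rcases mem_V0.1 x.2 with h | h | h | h <;> rw [h] <;> decide +kernel
    · intro h
      have h1 := (Subgroup.map_eq_bot_iff_of_injective _ (conjAlt 6 g).injective).1 h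
      have h2 : Z0 ∈ V0 := mem_V0.2 (Or.inr (Or.inl rfl))
      rw [h1, mem_bot] at h2
      exact Z0_ne h2
  · rintro α hα _ ⟨g, rfl⟩
    obtain ⟨σ, hσ⟩ := ns_of_cube hα
    refine ⟨σ * g, ?_⟩
    show V0.map (conjAlt 6 (σ * g)).toMonoidHom = (V0.map (conjAlt 6 g).toMonoidHom).map α.toMonoidHom
    rw [Subgroup.map_map]
    congr 1
    ext1 x
    apply Subtype.ext
    show σ * g * (x : Perm (Fin 6)) * (σ * g)⁻¹ = (α (conjAlt 6 g x) : Perm (Fin 6))
    rw [hσ, conjAlt_apply]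
    group
  · refine orbit_not_nine (conjAlt 6) ?_ V0 c0 ?_ V0_conj
    · rw [Nat.card_eq_fintype_card, Fintype.card_perm, Fintype.card_fin]
      decide
    · exact orderOf_eq_prime (by rw [pow_succ, pow_two]; exact c0_cube) c0_ne

end six

/-! ### `U₃(5)` -/

section psu

open Matrix Cfsg.Agent.LieClassical.HermBasic Cfsg.Agent.GTwoOdd.Core.HFiveB Cfsg.Agent.GTwoOdd.CentPSU

variable {F : Type*} [Field F] [Fintype F]

theorem bad_psu (hF : Fintype.card F = 5 ^ 2) (hc : Nat.card (Cfsg.PSU 3 F 5) = 126000) : Bad (Cfsg.PSU 3 F 5) := by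
  classical
  have hq : Odd 5 := by decide
  have hfin : Finite (Cfsg.PSU 3 F 5) := Nat.finite_of_card_ne_zero (by rw [hc]; norm_num)
  -- a primitive cube root of unity
  obtain ⟨w, hw⟩ : ∃ w : Fˣ, orderOf w = 3 := by
    have : Fact (Nat.Prime 3) := ⟨Nat.prime_three⟩
    apply exists_prime_orderOf_dvd_card
    rw [Fintype.card_units, hF]
    decide
  have hw3 : (w : F) ^ 3 = 1 := by
    have h := pow_orderOf_eq_one w
    rw [hw] at h
    rw [← Units.val_pow_eq_pow_val, h, Units.val_one]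
  have hw1 : (w : F) ≠ 1 := by
    intro h
    have h' : w = 1 := Units.ext h
    rw [h', orderOf_one] at hw
    norm_num at hw
  have hw0 : (w : F) ≠ 0 := w.ne_zero
  let B : Matrix (Fin 2) (Fin 2) F := !![(w : F), 0; 0, (w : F) ^ 2]
  have hBd : B.det = 1 := by
    rw [det_fin_two]
    simp only [B, of_apply, cons_val', cons_val_zero, cons_val_one, cons_val_fin_one]
    rw [mul_zero, sub_zero, ← hw3]
    ring
  let A : GL (Fin 2) F := GeneralLinearGroup.mkOfDetNeZero B (by rw [hBd]; exact one_ne_zero)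
  have hA1 : A.1 = B := rfl
  have hBu : ∀ u : Fin 2 → F, B *ᵥ u = ![w * u 0, (w : F) ^ 2 * u 1] := by
    intro u
    ext i
    (revert i; simp only [B, Matrix.mulVec, dotProduct, Fin.sum_univ_two, _root_.Fin.forall_fin_succ, _root_.Matrix.of_apply, _root_.Matrix.cons_val', _root_.Matrix.cons_val_fin_one, Fin.isValue, _root_.Matrix.cons_val_zero, _root_.Matrix.cons_val_one, _root_.Nat.succ_eq_add_one, Nat.reduceAdd, _root_.MulZeroClass.zero_mul, _root_.add_zero, _root_.Matrix.cons_val_succ, _root_.zero_add, _root_.implies_true, _root_.and_self])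
  have hA : A ∈ Cfsg.GU 2 F 5 := by
    rw [mem_GU_iff]
    intro u v
    rw [hA1, hBu, hBu]
    simp only [Cfsg.hermForm, Fin.sum_univ_two, cons_val_zero, cons_val_one]
    linear_combination (u 0 * v 0 ^ 5 * ((w : F) ^ 3 + 1) + u 1 * v 1 ^ 5 * ((w : F) ^ 9 + (w : F) ^ 6 + (w : F) ^ 3 + 1)) * hw3
  have hB3 : B ^ 3 = 1 := by
    rw [pow_succ, pow_two]
    ext i j
    fin_cases i <;> fin_cases j <;> simp [B, Matrix.mul_apply, Fin.sum_univ_two]
    · linear_combination hw3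
    · linear_combination ((w : F) ^ 3 + 1) * hw3
  have hA3 : (⟨A, hA⟩ : Cfsg.GU 2 F 5) ^ 3 = 1 := by
    apply Subtype.ext
    apply Units.ext
    exact hB3
  let x : Cfsg.PSU 3 F 5 := QuotientGroup.mk (emb hF ⟨A, hA⟩)
  have hx3 : x ^ 3 = 1 := by
    show (QuotientGroup.mk (emb hF ⟨A, hA⟩) : Cfsg.PSU 3 F 5) ^ 3 = 1
    rw [← QuotientGroup.mk_pow, ← map_pow, hA3, map_one, QuotientGroup.mk_one]
  have hx1 : x ≠ 1 := by
    intro h
    have h1 := center_scalar hF hq ((QuotientGroup.eq_one_iff _).1 h)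
    rw [emb_val, hA1, hBd, inv_one] at h1
    have h2 := congrFun (congrFun h1 1) 1
    simp [blk, B] at h2
    exact hw1 (by rw [h2]; rfl)
  have hxo : orderOf x = 3 := by
    have : Fact (Nat.Prime 3) := ⟨Nat.prime_three⟩
    exact orderOf_eq_prime hx3 hx1
  have hxv : x * vv hF hq * x⁻¹ = vv hF hq := by
    rw [mul_inv_eq_iff_eq_mul]
    exact (mem_centralizer_singleton_iff.1 (toC hF hq ⟨A, hA⟩).2)
  refine bad_of_inv (MulAut.conj : Cfsg.PSU 3 F 5 →* MulAut (Cfsg.PSU 3 F 5)) ?_ (vv hF hq) (orderOf_vv hF hq) x hxo hxv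
    fun s hs => exists_conj_vv hF hq hs
  rw [hc]
  decide

end psu

end Cfsg.Agent.CpAutCo3.Count

end

-- merged: Cfsg.Agent.CpAutCo3.Four
section

/-!
# Elements of order four

`Four K` : `K` has an element of order four. `A₆`, `A₇`, `L₂(7)`, `L₂(23)`, `L₃(2)`, `U₃(5)`.
-/

set_option autoImplicit false

namespace Cfsg.Agent.CpAutCo3.Four

open Subgroup Cfsg

/-- `K` has an element of order four -/
def Four (K : Type*) [Group K] : Prop := ∃ s : K, s * s ≠ 1 ∧ s * s * (s * s) = 1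

theorem Four.congr {K L : Type*} [Group K] [Group L] (e : K ≃* L) (h : Four K) : Four L := by
  obtain ⟨s, h1, h2⟩ := h
  refine ⟨e s, fun h => h1 ?_, ?_⟩
  · rw [← map_mul] at h
    exact (map_eq_one_iff e e.injective).1 h
  · rw [← map_mul, ← map_mul, h2, map_one]

section alt

open Equiv

theorem four_six : Four ↥(alternatingGroup (Fin 6)) :=
  ⟨⟨swap 0 1 * swap 1 2 * swap 2 3 * swap 4 5, Perm.mem_alternatingGroup.2 (by decide +kernel)⟩,
    fun h => (by decide +kernel : (swap 0 1 * swap 1 2 * swap 2 3 * swap 4 5 : Perm (Fin 6)) *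
      (swap 0 1 * swap 1 2 * swap 2 3 * swap 4 5) ≠ 1) (congrArg Subtype.val h),
    Subtype.ext (by decide +kernel : (swap 0 1 * swap 1 2 * swap 2 3 * swap 4 5 : Perm (Fin 6)) *
      (swap 0 1 * swap 1 2 * swap 2 3 * swap 4 5) * (swap 0 1 * swap 1 2 * swap 2 3 * swap 4 5 *
      (swap 0 1 * swap 1 2 * swap 2 3 * swap 4 5)) = 1)⟩

theorem four_seven : Four ↥(alternatingGroup (Fin 7)) :=
  ⟨⟨swap 0 1 * swap 1 2 * swap 2 3 * swap 4 5, Perm.mem_alternatingGroup.2 (by decide +kernel)⟩,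
    fun h => (by decide +kernel : (swap 0 1 * swap 1 2 * swap 2 3 * swap 4 5 : Perm (Fin 7)) *
      (swap 0 1 * swap 1 2 * swap 2 3 * swap 4 5) ≠ 1) (congrArg Subtype.val h),
    Subtype.ext (by decide +kernel : (swap 0 1 * swap 1 2 * swap 2 3 * swap 4 5 : Perm (Fin 7)) *
      (swap 0 1 * swap 1 2 * swap 2 3 * swap 4 5) * (swap 0 1 * swap 1 2 * swap 2 3 * swap 4 5 *
      (swap 0 1 * swap 1 2 * swap 2 3 * swap 4 5)) = 1)⟩

end alt

section lin

open Matrix

variable {F : Type*} [Field F] [Fintype F]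

/-- `L₂(q)`, `q` odd, 2 a square -/
theorem four_psl (h2 : (2 : F) ≠ 0) (hs : IsSquare (2 : F)) : Four (Matrix.ProjectiveSpecialLinearGroup (Fin 2) F) := by
  obtain ⟨t, ht⟩ := hs
  have ht0 : t ≠ 0 := by
    rintro rfl
    rw [mul_zero] at ht
    exact h2 ht
  let A : SpecialLinearGroup (Fin 2) F := ⟨!![0, -1; 1, t], by rw [det_fin_two]; simp⟩
  have hAA : (A * A).1 = !![-1, -t; t, 1] := by
    change !![(0 : F), -1; 1, t] * !![(0 : F), -1; 1, t] = _
    ext i j
    (revert i j; simp only [Matrix.mul_apply, Fin.sum_univ_two, _root_.Fin.forall_fin_succ, _root_.Matrix.of_apply, _root_.Matrix.cons_val', _root_.Matrix.cons_val_fin_one, Fin.isValue, _root_.Matrix.cons_val_zero, _root_.Matrix.cons_val_one, _root_.MulZeroClass.mul_zero, _root_.mul_one, _root_.zero_add, _root_.Matrix.cons_val_succ, _root_.mul_neg, _root_.forall_const, _root_.neg_zero, _root_.neg_mul, _root_.one_mul, _root_.and_true, _root_.true_and]) <;> (repeat' with_reducible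 apply And.intro)
    rw [← ht]; ring
  have hA4 : (A * A * (A * A)).1 = !![-1, 0; 0, -1] := by
    change (A * A).1 * (A * A).1 = _
    rw [hAA]
    ext i j
    fin_cases i <;> fin_cases j <;> simp only [Matrix.mul_apply, Fin.sum_univ_two, _root_.Fin.zero_eta, _root_.Fin.isValue, _root_.Matrix.mul_apply, _root_.Matrix.of_apply, _root_.Matrix.cons_val', _root_.Matrix.cons_val_fin_one, _root_.Matrix.cons_val_zero, _root_.Fin.sum_univ_two, _root_.mul_neg, _root_.mul_one, _root_.neg_neg, _root_.Matrix.cons_val_one, _root_.neg_mul, _root_.Fin.mk_one, _root_.one_mul, _root_.add_neg_cancel, _root_.neg_add_cancel]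
    all_goals (rw [← ht]; ring)
  refine ⟨QuotientGroup.mk A, ?_, ?_⟩
  · intro h
    have h1 : A * A ∈ center (SpecialLinearGroup (Fin 2) F) := (QuotientGroup.eq_one_iff _).1 h
    obtain ⟨r, -, hr⟩ := Matrix.SpecialLinearGroup.mem_center_iff.1 h1
    have h3 := congrFun (congrFun hr 1) 0
    rw [hAA] at h3
    simp at h3
    exact ht0 h3.symm
  · have h1 : A * A * (A * A) ∈ center (SpecialLinearGroup (Fin 2) F) := by
      rw [Matrix.SpecialLinearGroup.mem_center_iff]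
      refine ⟨-1, by simp only [_root_.Fintype.card_fin, _root_.even_two, _root_.Even.neg_pow, _root_.one_pow], ?_⟩
      rw [hA4]
      ext i j
      (revert i j; simp only [_root_.Fin.forall_fin_succ, _root_.Matrix.scalar_apply, _root_.Matrix.of_apply, _root_.Matrix.cons_val', _root_.Matrix.cons_val_fin_one, Fin.isValue, _root_.Matrix.cons_val_zero, _root_.Matrix.cons_val_succ, _root_.Fin.succ_zero_eq_one, _root_.IsEmpty.forall_iff, _root_.and_true, _root_.Matrix.diagonal_apply_eq, _root_.ne_eq, _root_.zero_ne_one, _root_.not_false_eq_true, _root_.Matrix.diagonal_apply_ne, _root_.and_self, _root_.Fin.succ_ne_zero, _root_.true_and])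
    exact (QuotientGroup.eq_one_iff _).2 h1

theorem four_psl_card (hF : Fintype.card F % 8 = 7) : Four (Matrix.ProjectiveSpecialLinearGroup (Fin 2) F) := by
  refine four_psl ?_ (FiniteField.isSquare_two_iff.2 ⟨by omega, by omega⟩)
  apply Ring.two_ne_zero
  intro h
  have := FiniteField.even_card_iff_char_two.mp h
  omega

/-- `L₃(2)` -/
theorem four_psl_three (hF : Fintype.card F = 2) : Four (Matrix.ProjectiveSpecialLinearGroup (Fin 3) F) := by
  have hc : ringChar F = 2 := FiniteField.even_card_iff_char_two.2 (by rw [hF])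
  have hcp : CharP F 2 := by rw [← hc]; exact ringChar.charP F
  have h2 : (1 : F) + 1 = 0 := CharTwo.add_self_eq_zero 1
  let A : SpecialLinearGroup (Fin 3) F := ⟨!![1, 1, 0; 0, 1, 1; 0, 0, 1], by rw [det_fin_three]; simp⟩
  have hAA : (A * A).1 = !![1, 0, 1; 0, 1, 0; 0, 0, 1] := by
    change !![(1 : F), 1, 0; 0, 1, 1; 0, 0, 1] * !![(1 : F), 1, 0; 0, 1, 1; 0, 0, 1] = _
    ext i j
    (revert i j; simp only [Matrix.mul_apply, Fin.sum_univ_three, h2, _root_.Fin.forall_fin_succ, _root_.Matrix.of_apply, _root_.Matrix.cons_val', _root_.Matrix.cons_val_fin_one, Fin.isValue, _root_.Matrix.cons_val_zero, _root_.Matrix.cons_val_one, _root_.Matrix.cons_val, _root_.mul_one, _root_.MulZeroClass.mul_zero, _root_.add_zero, _root_.Matrix.cons_val_succ, _root_.zero_add, _root_.forall_const, _root_.true_and, _root_.and_self, _root_.add_eq_right, _root_.implies_true])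
  have hA4 : A * A * (A * A) = 1 := by
    apply Subtype.ext
    change (A * A).1 * (A * A).1 = 1
    rw [hAA]
    ext i j
    (revert i j; simp only [Matrix.mul_apply, Fin.sum_univ_three, h2, _root_.Fin.forall_fin_succ, _root_.Matrix.of_apply, _root_.Matrix.cons_val', _root_.Matrix.cons_val_fin_one, Fin.isValue, _root_.Matrix.cons_val_zero, _root_.Matrix.cons_val_one, _root_.Matrix.cons_val, _root_.mul_one, _root_.MulZeroClass.mul_zero, _root_.add_zero, _root_.Matrix.cons_val_succ, _root_.zero_add, _root_.IsEmpty.forall_iff, _root_.and_true, _root_.Matrix.one_apply_eq, Nat.reduceAdd, _root_.Fin.succ_zero_eq_one, _root_.ne_eq, _root_.zero_ne_one, _root_.not_false_eq_true, _root_.Matrix.one_apply_ne, _root_.Fin.succ_one_eq_two, Fin.reduceEq, _root_.and_self, _root_.Fin.succ_ne_zero, _root_.true_and])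
  refine ⟨QuotientGroup.mk A, ?_, ?_⟩
  · intro h
    have h1 : A * A ∈ center (SpecialLinearGroup (Fin 3) F) := (QuotientGroup.eq_one_iff _).1 h
    obtain ⟨r, -, hr⟩ := Matrix.SpecialLinearGroup.mem_center_iff.1 h1
    have h3 := congrFun (congrFun hr 0) 2
    rw [hAA] at h3
    simp at h3
  · show (QuotientGroup.mk (A * A * (A * A)) : Matrix.ProjectiveSpecialLinearGroup (Fin 3) F) = 1
    rw [hA4, QuotientGroup.mk_one]

end lin

section psu

open Matrix Cfsg.Agent.LieClassical.HermBasic Cfsg.Agent.GTwoOdd.Core.HFiveB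

variable {F : Type*} [Field F] [Fintype F] {q : ℕ}

/-- `U₃(q)`, `q` odd -/
theorem four_psu (hF : Fintype.card F = q ^ 2) (hq : Odd q) : Four (Cfsg.PSU 3 F q) := by
  let B : Matrix (Fin 2) (Fin 2) F := !![0, -1; 1, 0]
  have hBd : B.det = 1 := by
    rw [det_fin_two]
    simp [B]
  let A : GL (Fin 2) F := GeneralLinearGroup.mkOfDetNeZero B (by rw [hBd]; exact one_ne_zero)
  have hA1 : A.1 = B := rfl
  have hBu : ∀ u : Fin 2 → F, B *ᵥ u = ![- u 1, u 0] := by
    intro u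
    ext i
    (revert i; simp only [B, Matrix.mulVec, dotProduct, Fin.sum_univ_two, _root_.Fin.forall_fin_succ, _root_.Matrix.of_apply, _root_.Matrix.cons_val', _root_.Matrix.cons_val_fin_one, Fin.isValue, _root_.Matrix.cons_val_zero, _root_.Matrix.cons_val_one, _root_.Nat.succ_eq_add_one, Nat.reduceAdd, _root_.MulZeroClass.zero_mul, _root_.neg_mul, _root_.one_mul, _root_.zero_add, _root_.Matrix.cons_val_succ, _root_.add_zero, _root_.implies_true, _root_.and_self])
  have hA : A ∈ Cfsg.GU 2 F q := by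
    rw [mem_GU_iff]
    intro u v
    rw [hA1, hBu, hBu]
    simp only [Cfsg.hermForm, Fin.sum_univ_two, cons_val_zero, cons_val_one]
    rw [hq.neg_pow]
    ring
  have hAA : (⟨A, hA⟩ : Cfsg.GU 2 F q) * ⟨A, hA⟩ = negOne hq hF := by
    apply Subtype.ext
    apply Units.ext
    change B * B = (-1 : GL (Fin 2) F).1
    ext i j
    (revert i j; simp only [B, Matrix.mul_apply, Fin.sum_univ_two, _root_.Fin.forall_fin_succ, _root_.Matrix.of_apply, _root_.Matrix.cons_val', _root_.Matrix.cons_val_fin_one, Fin.isValue, _root_.Matrix.cons_val_zero, _root_.Matrix.cons_val_one, _root_.Units.val_neg, _root_.Units.val_one, _root_.Matrix.neg_apply, _root_.MulZeroClass.mul_zero, _root_.mul_one, _root_.zero_add, _root_.Matrix.cons_val_succ, _root_.mul_neg, _root_.add_zero, _root_.neg_inj, _root_.IsEmpty.forall_iff, _root_.and_true, _root_.Matrix.one_apply_eq, Nat.reduceAdd, _root_.Fin.succ_zero_eq_one, _root_.ne_eq, _root_.zero_ne_one, _root_.not_false_eq_true,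 _root_.Matrix.one_apply_ne, _root_.and_self, _root_.Fin.succ_ne_zero, _root_.neg_zero, _root_.true_and])
  have h1 : (QuotientGroup.mk (emb hF ⟨A, hA⟩) : Cfsg.PSU 3 F q) * QuotientGroup.mk (emb hF ⟨A, hA⟩) = vv hF hq := by
    rw [← QuotientGroup.mk_mul, ← map_mul, hAA]
    rfl
  have hv := orderOf_vv (F := F) hF hq
  refine ⟨QuotientGroup.mk (emb hF ⟨A, hA⟩), ?_, ?_⟩
  · rw [h1]
    intro h
    rw [h, orderOf_one] at hv
    norm_num at hv
  · rw [h1, ← pow_two, ← hv, pow_orderOf_eq_one]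

end psu

end Cfsg.Agent.CpAutCo3.Four

end

-- merged: Cfsg.Agent.CpAutCo3.TwoB
section

/-!
# Components, elementary abelian Sylow 2-subgroups and one class of involutions

`twoB` : `H` finite without elements of order 4, `8 ∣ |H|`, one class of involutions, `L` a component of
`H / O_{3'}(H)` with `2 ∣ |L / Z(L)|`: then `8 ∣ |L / Z(L)|` and `L / Z(L)` has no element of order 4.
-/

set_option autoImplicit false

namespace Cfsg.Agent.CpAutCo3.TwoB

open Subgroup Cfsg
open scoped commutatorElement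
open Cfsg.Agent.SignalizersComponents
open Cfsg.Agent.CpAutCo3.Four

universe u

/-- the 2-elements have order at most two -/
def ExpTwo (A : Type*) [Group A] : Prop := ∀ a : A, (∃ k : ℕ, a ^ 2 ^ k = 1) → a ^ 2 = 1

theorem expTwo_of {A : Type*} [Group A] (h : ∀ s : A, s ^ 4 = 1 → s ^ 2 = 1) : ExpTwo A := by
  rintro a ⟨k, hk⟩
  induction k with
  | zero =>
    rw [pow_zero, pow_one] at hk
    rw [hk, one_pow]
  | succ k ih =>
    rcases k with _ | k
    · rwa [zero_add, pow_one] at hk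
    · apply ih
      have h1 : (a ^ 2 ^ k) ^ 4 = 1 := by
        rw [← pow_mul, show 2 ^ k * 4 = 2 ^ (k + 1 + 1) by ring]
        exact hk
      have h2 := h _ h1
      rw [← pow_mul] at h2
      rwa [pow_succ]

/-- a 2-element of a quotient is the image of a 2-element -/
theorem lift {A B : Type*} [Group A] [Finite A] [Group B] (f : A →* B) (hf : Function.Surjective f) {b : B} {k : ℕ}
    (hb : b ^ 2 ^ k = 1) : ∃ a : A, f a = b ∧ ∃ j : ℕ, a ^ 2 ^ j = 1 := by
  obtain ⟨a, rfl⟩ := hf b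
  obtain ⟨j, m, hm, hc⟩ := Nat.exists_eq_two_pow_mul_odd (n := Nat.card A) Nat.card_pos.ne'
  have hb' : f a ^ 2 ^ (k + 1) = 1 := by rw [pow_succ, pow_mul, hb, one_pow]
  have h1 : Nat.Coprime m (2 ^ (k + 1)) := Nat.Coprime.pow_right _ (Nat.coprime_two_right.2 hm)
  obtain ⟨c, -, hc'⟩ := Nat.exists_mul_mod_eq_one_of_coprime h1 (Nat.one_lt_two_pow (by omega))
  refine ⟨a ^ (m * c), ?_, j, ?_⟩
  · rw [map_pow]
    have h1 : f a ^ (m * c) = f a ^ 1 := by
      rw [pow_eq_pow_iff_modEq]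
      have h2 : m * c ≡ 1 [MOD 2 ^ (k + 1)] := by
        rw [Nat.ModEq, hc', Nat.mod_eq_of_lt (Nat.one_lt_two_pow (by omega))]
      exact h2.of_dvd (orderOf_dvd_of_pow_eq_one hb')
    rw [h1, pow_one]
  · rw [← pow_mul, show m * c * 2 ^ j = 2 ^ j * m * c by ring, ← hc, pow_mul, pow_card_eq_one', one_pow]

theorem ExpTwo.quot {A B : Type*} [Group A] [Finite A] [Group B] (h : ExpTwo A) (f : A →* B)
    (hf : Function.Surjective f) : ExpTwo B := by
  rintro b ⟨k, hk⟩
  obtain ⟨a, rfl, ha⟩ := lift f hf hk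
  rw [← map_pow, h a ha, map_one]

theorem ExpTwo.sub {A : Type*} [Group A] (h : ExpTwo A) (B : Subgroup A) : ExpTwo ↥B := by
  rintro b ⟨k, hk⟩
  exact Subtype.ext (h b ⟨k, congrArg Subtype.val hk⟩)

theorem ExpTwo.not_four {A : Type*} [Group A] (h : ExpTwo A) : ¬ Four A := by
  rintro ⟨s, h1, h2⟩
  apply h1
  have h3 := h s ⟨2, by rw [show (2 : ℕ) ^ 2 = 2 * 2 by norm_num, pow_mul, pow_two, pow_two, h2]⟩
  rwa [pow_two] at h3

section

variable {H : Type u} [Group H] [Finite H]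

omit [Finite H] in
theorem order_two {s : H} (h : s ^ 2 = 1) (h1 : s ≠ 1) : orderOf s = 2 := by
  have : Fact (Nat.Prime 2) := ⟨Nat.prime_two⟩
  exact orderOf_eq_prime h h1

/-- the abstract situation: one class of involutions, a component containing one -/
theorem mem_of_component {Q : Type u} [Group Q] [Finite Q]
    (hconj : ∀ s t : Q, orderOf s = 2 → orderOf t = 2 → ∃ h, h * s * h⁻¹ = t) {L : Subgroup Q} (hL : IsComponent L)
    (hZ : ¬ 2 ∣ Nat.card ↥(center ↥L)) {t : Q} (ht : orderOf t = 2) (htL : t ∈ L) {s : Q} (hs : orderOf s = 2) :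
    s ∈ L := by
  have ht2 : t * t = 1 := by rw [← pow_two, ← ht, pow_orderOf_eq_one]
  have ht1 : t ≠ 1 := by
    rintro rfl
    rw [orderOf_one] at ht
    norm_num at ht
  -- an involution of `L` does not commute with `L`
  have key : ∀ {x : Q}, orderOf x = 2 → x ∈ L → ¬ ∀ y ∈ L, x * y = y * x := by
    intro x hx hxL hxy
    apply hZ
    have h1 : (⟨x, hxL⟩ : ↥L) ∈ center ↥L := by
      rw [mem_center_iff]
      intro y
      exact Subtype.ext (hxy y y.2).symm
    have h2 := orderOf_dvd_natCard (⟨⟨x, hxL⟩, h1⟩ : ↥(center ↥L))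
    rwa [Subgroup.orderOf_mk, Subgroup.orderOf_mk, hx] at h2
  have comm_of : ∀ {L1 L2 : Subgroup Q}, IsComponent L1 → IsComponent L2 → L1 ≠ L2 → ∀ x ∈ L1, ∀ y ∈ L2,
      x * y = y * x := by
    intro L1 L2 h1 h2 hne x hx y hy
    have h3 : ⁅x, y⁆ ∈ ⁅L1, L2⁆ := commutator_mem_commutator hx hy
    rw [DistinctComponents.distinct_components_commute h1 h2 hne, mem_bot,
      commutatorElement_eq_one_iff_mul_comm] at h3
    exact h3
  -- `L` is normal
  have hnorm : ∀ q : Q, L.map (MulAut.conj q).toMonoidHom = L := by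
    intro q
    by_contra hne
    set L' := L.map (MulAut.conj q).toMonoidHom with hL'
    have hLq : IsComponent L' := Components.isComponent_conj q hL
    obtain ⟨t', ht'⟩ : ∃ t', t' = q * t * q⁻¹ := ⟨_, rfl⟩
    have ht'L : t' ∈ L' := ⟨t, htL, ht'.symm⟩
    have hc := comm_of hL hLq (Ne.symm hne)
    have ht'2 : t' * t' = 1 := by
      have : t' * t' = q * (t * t) * q⁻¹ := by rw [ht']; group
      rw [this, ht2]; group
    have hne' : t * t' ≠ 1 := by
      intro h
      have h1 : t = t' := by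
        have h2 : t * t' = t * t := by rw [h, ht2]
        exact (mul_left_cancel h2).symm
      refine key ht htL fun y hy => ?_
      rw [h1]
      exact (hc y hy t' ht'L).symm
    have h2 : orderOf (t * t') = 2 := by
      refine order_two ?_ hne'
      have h3 : (t * t') ^ 2 = t * (t' * t) * t' := by rw [pow_two]; simp only [mul_assoc]
      rw [h3, ← hc t htL t' ht'L]
      have h4 : t * (t * t') * t' = (t * t) * (t' * t') := by simp only [mul_assoc]
      rw [h4, ht2, ht'2, one_mul]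
    obtain ⟨r, hr⟩ := hconj t (t * t') ht h2
    have hLr : IsComponent (L.map (MulAut.conj r).toMonoidHom) := Components.isComponent_conj r hL
    have hmem : t * t' ∈ L.map (MulAut.conj r).toMonoidHom := ⟨t, htL, hr⟩
    by_cases h5 : L.map (MulAut.conj r).toMonoidHom = L
    · -- then it is not `L'`
      have h6 : L.map (MulAut.conj r).toMonoidHom ≠ L' := by rw [h5]; exact Ne.symm hne
      have h7 := comm_of hLr hLq h6 _ hmem
      -- `t'` commutes with `L'`
      have h8 : ∀ y ∈ L', t' * y = y * t' := by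
        intro y hy
        have h9 : t * (t' * y) = t * (y * t') := by
          calc t * (t' * y) = t * t' * y := (mul_assoc _ _ _).symm
            _ = y * (t * t') := h7 y hy
            _ = y * t * t' := (mul_assoc _ _ _).symm
            _ = t * y * t' := by rw [hc t htL y hy]
            _ = t * (y * t') := mul_assoc _ _ _
        exact mul_left_cancel h9
      refine key ht htL fun y hy => ?_
      have h10 := h8 (q * y * q⁻¹) ⟨y, hy, rfl⟩
      rw [ht'] at h10
      have h11 : q * (t * y) * q⁻¹ = q * (y * t) * q⁻¹ := by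
        calc q * (t * y) * q⁻¹ = q * t * q⁻¹ * (q * y * q⁻¹) := by group
          _ = q * y * q⁻¹ * (q * t * q⁻¹) := h10
          _ = _ := by group
      exact mul_left_cancel (mul_right_cancel h11)
    · have h7 := comm_of hLr hL h5 _ hmem
      refine key ht htL fun y hy => ?_
      have h9 : t * y * t' = y * t * t' := by
        calc t * y * t' = t * (y * t') := mul_assoc _ _ _
          _ = t * (t' * y) := by rw [hc y hy t' ht'L]
          _ = t * t' * y := (mul_assoc _ _ _).symm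
          _ = y * (t * t') := h7 y hy
          _ = y * t * t' := (mul_assoc _ _ _).symm
      exact mul_right_cancel h9
  obtain ⟨h, rfl⟩ := hconj t s ht hs
  rw [← hnorm h]
  exact ⟨t, htL, rfl⟩

/-- **one class of involutions, no elements of order 4** -/
theorem twoB (h8 : 8 ∣ Nat.card H) (h4 : ∀ s : H, s ^ 4 = 1 → s ^ 2 = 1)
    (hconj : ∀ s t : H, orderOf s = 2 → orderOf t = 2 → ∃ h, h * s * h⁻¹ = t)
    {L : Subgroup (H ⧸ pPrimeCore 3 H)} (hL : IsComponent L) (h2 : 2 ∣ Nat.card (↥L ⧸ center ↥L)) :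
    8 ∣ Nat.card (↥L ⧸ center ↥L) ∧ ¬ Four (↥L ⧸ center ↥L) := by
  have hn := Lib.Cores.pPrimeCore_normal (G := H) 3
  have : Fact (Nat.Prime 2) := ⟨Nat.prime_two⟩
  have hZ : ¬ 2 ∣ Nat.card ↥(center ↥L) := by
    obtain ⟨n, hn⟩ := (CpAut.isPGroup_center_comp (by norm_num) L hL).exists_card_eq
    rw [hn]
    intro hd
    exact absurd ((Nat.prime_dvd_prime_iff_eq Nat.prime_two Nat.prime_three).1 (Nat.prime_two.dvd_of_dvd_pow hd))
      (by norm_num)
  have hE : ExpTwo H := expTwo_of h4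
  have hEQ : ExpTwo (H ⧸ pPrimeCore 3 H) := hE.quot (QuotientGroup.mk' _) (QuotientGroup.mk'_surjective _)
  have hEL : ExpTwo (↥L ⧸ center ↥L) := (hEQ.sub L).quot (QuotientGroup.mk' _) (QuotientGroup.mk'_surjective _)
  refine ⟨?_, hEL.not_four⟩
  -- involutions of the quotient lift
  have hlift : ∀ q : H ⧸ pPrimeCore 3 H, orderOf q = 2 → ∃ a : H, orderOf a = 2 ∧ QuotientGroup.mk' _ a = q := by
    intro q hq
    obtain ⟨a, ha, haj⟩ := lift (QuotientGroup.mk' (pPrimeCore 3 H)) (QuotientGroup.mk'_surjective _) (b := q) (k := 1)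
      (by rw [pow_one, ← hq, pow_orderOf_eq_one])
    refine ⟨a, order_two (hE a haj) ?_, ha⟩
    rintro rfl
    rw [map_one] at ha
    rw [← ha, orderOf_one] at hq
    norm_num at hq
  have hconjQ : ∀ s t : H ⧸ pPrimeCore 3 H, orderOf s = 2 → orderOf t = 2 → ∃ h, h * s * h⁻¹ = t := by
    intro s t hs ht
    obtain ⟨a, ha, rfl⟩ := hlift s hs
    obtain ⟨b, hb, rfl⟩ := hlift t ht
    obtain ⟨h, rfl⟩ := hconj a b ha hb
    exact ⟨QuotientGroup.mk' _ h, by rw [map_mul, map_mul, map_inv]⟩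
  -- an involution of `L`
  have h2L : 2 ∣ Nat.card ↥L := h2.trans (card_quotient_dvd_card _)
  obtain ⟨t, ht⟩ := exists_prime_orderOf_dvd_card' 2 h2L
  have htQ : orderOf (t : H ⧸ pPrimeCore 3 H) = 2 := by rw [Subgroup.orderOf_coe, ht]
  -- `O_{3'}(H)` has odd order
  have hN : ¬ 2 ∣ Nat.card ↥(pPrimeCore 3 H) := by
    intro hN
    obtain ⟨s, hs⟩ := exists_prime_orderOf_dvd_card' 2 hN
    have hs' : orderOf (s : H) = 2 := by rw [Subgroup.orderOf_coe, hs]
    obtain ⟨a, ha, hat⟩ := hlift _ htQ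
    obtain ⟨h, hh⟩ := hconj _ _ hs' ha
    have h1 : a ∈ pPrimeCore 3 H := by
      rw [← hh]
      exact hn.conj_mem _ s.2 h
    have h3 : QuotientGroup.mk' (pPrimeCore 3 H) a = 1 := (QuotientGroup.eq_one_iff a).2 h1
    rw [← hat, h3, orderOf_one] at htQ
    norm_num at htQ
  have h8Q : 8 ∣ Nat.card (H ⧸ pPrimeCore 3 H) := by
    rw [card_eq_card_quotient_mul_card_subgroup (pPrimeCore 3 H)] at h8
    exact Nat.Coprime.dvd_of_dvd_mul_right
      (Nat.Coprime.pow_left 3 ((Nat.Prime.coprime_iff_not_dvd Nat.prime_two).2 hN)) h8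
  -- a Sylow 2-subgroup lies in `L`
  obtain ⟨P⟩ : Nonempty (Sylow 2 (H ⧸ pPrimeCore 3 H)) := inferInstance
  have hPL : (P : Subgroup (H ⧸ pPrimeCore 3 H)) ≤ L := by
    intro y hy
    obtain ⟨k, hk⟩ := P.isPGroup' ⟨y, hy⟩
    have hk' : y ^ 2 ^ k = 1 := congrArg Subtype.val hk
    by_cases hy1 : y = 1
    · rw [hy1]; exact L.one_mem
    · exact mem_of_component hconjQ hL hZ htQ t.2 (order_two (hEQ y ⟨k, hk'⟩) hy1)
  have h8P : 8 ∣ Nat.card ↥(P : Subgroup (H ⧸ pPrimeCore 3 H)) := by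
    have h5 : 2 ^ 3 ∣ Nat.card (H ⧸ pPrimeCore 3 H) := h8Q
    have h6 := (Nat.prime_two.pow_dvd_iff_le_factorization Nat.card_pos.ne').1 h5
    rw [P.card_eq_multiplicity]
    exact pow_dvd_pow 2 h6
  have h8L : 8 ∣ Nat.card ↥L := h8P.trans (card_dvd_of_le hPL)
  rw [card_eq_card_quotient_mul_card_subgroup (center ↥L)] at h8L
  exact Nat.Coprime.dvd_of_dvd_mul_right
    (Nat.Coprime.pow_left 3 ((Nat.Prime.coprime_iff_not_dvd Nat.prime_two).2 hZ)) h8L

end

end Cfsg.Agent.CpAutCo3.TwoB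

end

-- merged: Cfsg.Agent.CpAutCo3.Table
section

/-!
# The known simple groups of order dividing `2 ^ 5 * 3 ^ 7 * 5 ^ 3 * 7 * 11 * 23`

Each of them is a `C₃`-group whose order is not 360, or `Bad` (`Count`) with an element of order 4 or a Sylow
2-subgroup of order 4.
-/

set_option autoImplicit false

namespace Cfsg.Agent.CpAutCo3.Table

open Subgroup Cfsg Cfsg.Agent.OrdDiv Cfsg.Agent.CpAutCo3.Count Cfsg.Agent.CpAutCo3.Four

/-- the factorization used -/
def l5 : List (ℕ × ℕ) := [(2, 5), (3, 7), (5, 3), (7, 1), (11, 1), (23, 1)]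

/-- the number used -/
def N5 : ℕ := 2 ^ 5 * 3 ^ 7 * 5 ^ 3 * 7 * 11 * 23

theorem valid_l5 : valid l5 N5 = true := by decide +kernel

theorem cands_l5 : cands l5 N5 = [.alt 5, .alt 6, .alt 7, .psl 3 2, .psl 2 4, .psl 2 8, .psl 2 9, .psl 2 5, .psl 2 7,
    .psl 2 11, .psl 2 23, .psu 3 3, .psu 3 5, .m11] := by decide +kernel

/-- a `C₃`-group that is not an exception -/
def Fine (K : Type*) [Group K] : Prop := IsCpSimple 3 K ∧ Nat.card K ≠ 360 ∧ Nat.card K ≠ 460815505920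

/-- excluded in both situations -/
def Out (K : Type*) [Group K] : Prop := Bad K ∧ 4 ∣ Nat.card K ∧ (¬ 8 ∣ Nat.card K ∨ Four K)

theorem out_of_nine {K : Type*} [Group K] [Finite K] (h4 : 4 ∣ Nat.card K) (h9 : ¬ 9 ∣ Nat.card K)
    (h : ¬ 8 ∣ Nat.card K ∨ Four K) : Out K :=
  ⟨bad_of_nine ((by norm_num : 2 ∣ 4).trans h4) h9, h4, h⟩

theorem table (T : OrderTable.{0}) {K : Type} [Group K] [Finite K] (h : IsKnownSimple' K)
    (hna : ¬ ∀ a b : K, a * b = b * a) (hd : Nat.card K ∣ N5) : Fine K ∨ Out K := by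
  obtain ⟨g, hg, hr, hc⟩ := exists_good T h hna valid_l5 hd
  rw [cands_l5] at hg
  simp only [List.mem_cons, List.not_mem_nil, or_false] at hg
  rcases hg with rfl | rfl | rfl | rfl | rfl | rfl | rfl | rfl | rfl | rfl | rfl | rfl | rfl | rfl
  · rw [show ordN (.alt 5) = 60 from by decide +kernel] at hc
    exact Or.inr (out_of_nine (by rw [hc]; norm_num) (by rw [hc]; norm_num) (Or.inl (by rw [hc]; norm_num)))
  · rw [show ordN (.alt 6) = 360 from by decide +kernel] at hc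
    obtain ⟨e⟩ := hr
    exact Or.inr ⟨bad_six.congr e.symm, by rw [hc]; norm_num, Or.inr (four_six.congr e.symm)⟩
  · rw [show ordN (.alt 7) = 2520 from by decide +kernel] at hc
    obtain ⟨e⟩ := hr
    exact Or.inr ⟨bad_seven.congr e.symm, by rw [hc]; norm_num, Or.inr (four_seven.congr e.symm)⟩
  · rw [show ordN (.psl 3 2) = 168 from by decide +kernel] at hc
    obtain ⟨F, _, _, hF, ⟨e⟩⟩ := hr
    exact Or.inr (out_of_nine (by rw [hc]; norm_num) (by rw [hc]; norm_num)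
      (Or.inr ((four_psl_three hF).congr e.symm)))
  · rw [show ordN (.psl 2 4) = 60 from by decide +kernel] at hc
    exact Or.inr (out_of_nine (by rw [hc]; norm_num) (by rw [hc]; norm_num) (Or.inl (by rw [hc]; norm_num)))
  · rw [show ordN (.psl 2 8) = 504 from by decide +kernel] at hc
    obtain ⟨F, _, _, hF, e⟩ := hr
    exact Or.inl ⟨Or.inl (Or.inr (Or.inr ⟨rfl, F, inferInstance, inferInstance, hF, e⟩)), by rw [hc]; norm_num,
      by rw [hc]; norm_num⟩
  · rw [show ordN (.psl 2 9) = 360 from by decide +kernel] at hc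
    obtain ⟨F, _, _, hF, ⟨e⟩⟩ := hr
    obtain ⟨e'⟩ := Cfsg.Agent.S0254.result (F := F) hF
    exact Or.inr ⟨bad_six.congr (e.trans e').symm, by rw [hc]; norm_num, Or.inr (four_six.congr (e.trans e').symm)⟩
  · rw [show ordN (.psl 2 5) = 60 from by decide +kernel] at hc
    exact Or.inr (out_of_nine (by rw [hc]; norm_num) (by rw [hc]; norm_num) (Or.inl (by rw [hc]; norm_num)))
  · rw [show ordN (.psl 2 7) = 168 from by decide +kernel] at hc
    obtain ⟨F, _, _, hF, ⟨e⟩⟩ := hr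
    exact Or.inr (out_of_nine (by rw [hc]; norm_num) (by rw [hc]; norm_num)
      (Or.inr ((four_psl_card (by rw [hF])).congr e.symm)))
  · rw [show ordN (.psl 2 11) = 660 from by decide +kernel] at hc
    exact Or.inr (out_of_nine (by rw [hc]; norm_num) (by rw [hc]; norm_num) (Or.inl (by rw [hc]; norm_num)))
  · rw [show ordN (.psl 2 23) = 6072 from by decide +kernel] at hc
    obtain ⟨F, _, _, hF, ⟨e⟩⟩ := hr
    exact Or.inr (out_of_nine (by rw [hc]; norm_num) (by rw [hc]; norm_num)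
      (Or.inr ((four_psl_card (by rw [hF])).congr e.symm)))
  · rw [show ordN (.psu 3 3) = 6048 from by decide +kernel] at hc
    obtain ⟨F, _, _, hF, e⟩ := hr
    have : Fact (Nat.Prime 3) := ⟨Nat.prime_three⟩
    have hcp : CharP F 3 := charP_of_card_eq_prime_pow (f := 2) hF
    exact Or.inl ⟨Or.inl (Or.inl (Or.inr (Or.inr (Or.inl
      ⟨F, inferInstance, inferInstance, hcp, 3, 3, hF, by norm_num, by norm_num, e⟩)))), by rw [hc]; norm_num,
      by rw [hc]; norm_num⟩
  · rw [show ordN (.psu 3 5) = 126000 from by decide +kernel] at hc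
    obtain ⟨F, _, _, hF, ⟨e⟩⟩ := hr
    exact Or.inr ⟨(bad_psu hF (by rw [← Nat.card_congr e.toEquiv]; exact hc)).congr e.symm, by rw [hc]; norm_num,
      Or.inr ((four_psu hF (by decide)).congr e.symm)⟩
  · rw [show ordN .m11 = 7920 from by decide +kernel] at hc
    exact Or.inl ⟨Or.inr (Or.inr (Or.inr (Or.inl ⟨rfl, Or.inr (Or.inr (Or.inr (Or.inr (Or.inl hr))))⟩))),
      by rw [hc]; norm_num, by rw [hc]; norm_num⟩

/-- **a component with fine quotient** -/
theorem inC (T : OrderTable.{0}) {L : Type} [Group L] (hq : IsQuasisimple L) (hp : IsPGroup 3 ↥(center L))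
    (h : Fine (L ⧸ center L)) : InC 3 L := by
  refine ⟨hq, hp, h.1, ?_⟩
  rintro (⟨h0, -⟩ | ⟨-, -, h0 | h0⟩)
  · exact absurd h0 (by norm_num)
  · apply h.2.1
    obtain ⟨e⟩ := h0
    rw [Nat.card_congr e.toEquiv, nat_card_alternatingGroup, Nat.card_eq_fintype_card, Fintype.card_fin]
    decide
  · exact h.2.2 (T.spor _ (.on, 460815505920) (by decide) h0)

end Cfsg.Agent.CpAutCo3.Table

end

-- merged: Cfsg.Agent.CpAutCo3.Comp
section

/-!
# Components of the centralizers of elements of order three of `Co₃`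

`comps_of` : with the facts `P1, P2` on the involutions of the second class.
-/

set_option autoImplicit false

namespace Cfsg.Agent.CpAutCo3.Comp

open Subgroup Cfsg Cfsg.Agent.SporRec.Co3.Chain Cfsg.Agent.SporRec.Co3.Ident
open Cfsg.Agent.SporRec.TwoSp6.Sp Cfsg.Agent.SporRec.TwoSp6.CInvol
open Cfsg.Agent.SporRec.Co3.Fusion (tC mem_cent t_sq t_ne)
open Cfsg.Agent.LThree (Comps)
open Cfsg.Agent.CpAut (AllKnown)
open Cfsg.Agent.OrdDiv (OrderTable)
open Cfsg.Agent.CpAutCo3.EGrp Cfsg.Agent.CpAutCo3.TwoA Cfsg.Agent.CpAutCo3.Table Cfsg.Agent.CpAutCo3.Count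
open Cfsg.Agent.CpAutCo3.Four

/-- the first fact on involutions not conjugate to `Z` -/
def P1 : Prop := ∀ {x t : G3}, orderOf x = 3 → orderOf t = 2 → x * t = t * x → (¬ ∃ g : G3, g * Z * g⁻¹ = t) →
  ¬ 64 ∣ Nat.card ↥(centralizer ({x} : Set G3) ⊓ centralizer ({t} : Set G3))

/-- the second fact on involutions not conjugate to `Z` -/
def P2 : Prop := ∀ {x t : G3}, orderOf x = 3 → orderOf t = 2 → x * t = t * x →
  (∃ g : G3, x * (g * Z * g⁻¹) = (g * Z * g⁻¹) * x) ∨
  (8 ∣ Nat.card ↥(centralizer ({x} : Set G3)) ∧ (∀ s : G3, s * x = x * s → s ^ 4 = 1 → s ^ 2 = 1) ∧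
    ∀ s t : G3, s * x = x * s → t * x = x * t → orderOf s = 2 → orderOf t = 2 →
      ∃ h : G3, h * x = x * h ∧ h * s * h⁻¹ = t)

theorem twoLocal : TwoLocalPRankLE 3 3 G3 :=
  SigZero.StarRk.twoLocal Nat.prime_three (by norm_num) (by norm_num) SigZero.CoThree.star

/-! ### conjugation -/

section conj

variable {G : Type*} [Group G]

theorem map_cent (c g : G) : (centralizer ({g} : Set G)).map (MulAut.conj c).toMonoidHom =
    centralizer ({c * g * c⁻¹} : Set G) :=
  Cfsg.Agent.SignalizersComponents.DistinctComponents.map_conj_centralizer_singleton c g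

theorem equiv_cent (c g : G) :
    Nonempty (↥(centralizer ({g} : Set G)) ≃* ↥(centralizer ({c * g * c⁻¹} : Set G))) :=
  ⟨((centralizer ({g} : Set G)).equivMapOfInjective (MulAut.conj c).toMonoidHom
    (MulAut.conj c).injective).trans (MulEquiv.subgroupCongr (map_cent c g))⟩

theorem card_inf_conj (c x t : G) : Nat.card ↥(centralizer ({c * x * c⁻¹} : Set G) ⊓
    centralizer ({c * t * c⁻¹} : Set G)) = Nat.card ↥(centralizer ({x} : Set G) ⊓ centralizer ({t} : Set G)) := by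
  rw [← map_cent, ← map_cent, ← Subgroup.map_inf _ _ _ (MulAut.conj c).injective]
  exact (Nat.card_congr ((centralizer ({x} : Set G) ⊓ centralizer ({t} : Set G)).equivMapOfInjective _
    (MulAut.conj c).injective).toEquiv).symm

theorem orderOf_cj (c x : G) : orderOf (c * x * c⁻¹) = orderOf x :=
  MulEquiv.orderOf_eq (MulAut.conj c) x

end conj

/-- the class of `Z` -/
theorem not_64_Z {x g : G3} (hx : orderOf x = 3) (hxt : x * (g * Z * g⁻¹) = g * Z * g⁻¹ * x) :
    ¬ 64 ∣ Nat.card ↥(centralizer ({x} : Set G3) ⊓ centralizer ({g * Z * g⁻¹} : Set G3)) := by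
  obtain ⟨π, N⟩ := KFacts.Co3D4.exists_NS_G3
  have h1 : g⁻¹ * x * g * Z = Z * (g⁻¹ * x * g) := by
    calc g⁻¹ * x * g * Z = g⁻¹ * (x * (g * Z * g⁻¹)) * g := by group
      _ = g⁻¹ * (g * Z * g⁻¹ * x) * g := by rw [hxt]
      _ = _ := by group
  have h2 : orderOf (g⁻¹ * x * g) = 3 := by
    have := orderOf_cj g⁻¹ x
    rw [inv_inv] at this
    rw [this, hx]
  have h3 := Sp.not_64 N h2 h1
  have h4 := card_inf_conj g (g⁻¹ * x * g) Z
  have h5 : g * (g⁻¹ * x * g) * g⁻¹ = x := by group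
  rw [h5] at h4
  rwa [h4]

theorem not_64 (hP1 : P1) {x t : G3} (hx : orderOf x = 3) (ht : orderOf t = 2) (hxt : x * t = t * x) :
    ¬ 64 ∣ Nat.card ↥(centralizer ({x} : Set G3) ⊓ centralizer ({t} : Set G3)) := by
  by_cases h : ∃ g : G3, g * Z * g⁻¹ = t
  · obtain ⟨g, rfl⟩ := h
    exact not_64_Z hx hxt
  · exact hP1 hx ht hxt h

/-- **the 2-part of the centralizers** -/
theorem not_64_cent (hP1 : P1) {x : G3} (hx : orderOf x = 3) : ¬ 64 ∣ Nat.card ↥(centralizer ({x} : Set G3)) := by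
  intro h64
  have : Fact (Nat.Prime 2) := ⟨Nat.prime_two⟩
  obtain ⟨S⟩ : Nonempty (Sylow 2 ↥(centralizer ({x} : Set G3))) := inferInstance
  have h64S : 64 ∣ Nat.card ↥(S : Subgroup ↥(centralizer ({x} : Set G3))) := by
    have h5 : 2 ^ 6 ∣ Nat.card ↥(centralizer ({x} : Set G3)) := h64
    have h6 := (Nat.prime_two.pow_dvd_iff_le_factorization Nat.card_pos.ne').1 h5
    rw [S.card_eq_multiplicity]
    exact pow_dvd_pow 2 h6
  have hnt : Nontrivial ↥(S : Subgroup ↥(centralizer ({x} : Set G3))) := by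
    rw [← Finite.one_lt_card_iff_nontrivial]
    exact lt_of_lt_of_le (by norm_num) (Nat.le_of_dvd Nat.card_pos h64S)
  have hc := S.isPGroup'.center_nontrivial
  have h2 : 2 ∣ Nat.card ↥(center ↥(S : Subgroup ↥(centralizer ({x} : Set G3)))) := by
    obtain ⟨n, hn⟩ := (S.isPGroup'.to_subgroup (center _)).exists_card_eq
    have h1 : 1 < Nat.card ↥(center ↥(S : Subgroup ↥(centralizer ({x} : Set G3)))) := Finite.one_lt_card
    rw [hn] at h1 ⊢
    exact dvd_pow_self 2 (by rintro rfl; norm_num at h1)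
  obtain ⟨z, hz⟩ := exists_prime_orderOf_dvd_card' 2 h2
  set t : G3 := (((z : ↥(S : Subgroup ↥(centralizer ({x} : Set G3)))) : ↥(centralizer ({x} : Set G3))) : G3) with ht
  have ht2 : orderOf t = 2 := by rw [ht, Subgroup.orderOf_coe, Subgroup.orderOf_coe, Subgroup.orderOf_coe, hz]
  have htx : x * t = t * x := (mem_centralizer_singleton_iff.1
    ((z : ↥(S : Subgroup ↥(centralizer ({x} : Set G3)))) : ↥(centralizer ({x} : Set G3))).2).symm
  apply not_64 hP1 hx ht2 htx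
  have hle : (S : Subgroup ↥(centralizer ({x} : Set G3))).map (centralizer ({x} : Set G3)).subtype ≤
      centralizer ({x} : Set G3) ⊓ centralizer ({t} : Set G3) := by
    rintro _ ⟨s, hs, rfl⟩
    refine ⟨s.2, mem_centralizer_singleton_iff.2 ?_⟩
    have h1 := mem_center_iff.1 z.2 ⟨s, hs⟩
    exact congrArg (fun y : ↥(S : Subgroup ↥(centralizer ({x} : Set G3))) =>
      ((y : ↥(centralizer ({x} : Set G3))) : G3)) h1
  refine dvd_trans ?_ (card_dvd_of_le hle)
  rw [← Nat.card_congr ((S : Subgroup ↥(centralizer ({x} : Set G3))).equivMapOfInjective _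
    (centralizer ({x} : Set G3)).subtype_injective).toEquiv]
  exact h64S

theorem card_cent_dvd (hP1 : P1) {x : G3} (hx : orderOf x = 3) : Nat.card ↥(centralizer ({x} : Set G3)) ∣ N5 := by
  have h1 : Nat.card ↥(centralizer ({x} : Set G3)) ∣ 2 ^ 10 * (3 ^ 7 * 5 ^ 3 * 7 * 11 * 23) := by
    refine (card_subgroup_dvd_card _).trans ?_
    rw [isCo3_G3.2]
    norm_num
  obtain ⟨a, b, ha, hb, hab⟩ := Nat.dvd_mul.1 h1
  obtain ⟨i, -, rfl⟩ := (Nat.dvd_prime_pow Nat.prime_two).1 ha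
  have hi : i ≤ 5 := by
    by_contra hcon
    push Not at hcon
    apply not_64_cent hP1 hx
    rw [← hab]
    exact Dvd.dvd.mul_right (pow_dvd_pow 2 hcon) b
  rw [← hab]
  have h2 : N5 = 2 ^ 5 * (3 ^ 7 * 5 ^ 3 * 7 * 11 * 23) := by unfold N5; ring
  rw [h2]
  exact mul_dvd_mul (pow_dvd_pow 2 hi) hb

/-! ### components -/

theorem quot_not_comm {L : Type*} [Group L] (h : IsQuasisimple L) : ¬ ∀ a b : L ⧸ center L, a * b = b * a := by
  intro hab
  apply SignalizersComponents.Components.quasisimple_center_ne_top h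
  rw [eq_top_iff]
  have h1 : commutator L ≤ center L := by
    rw [commutator_def, commutator_le]
    intro a _ b _
    rw [← QuotientGroup.eq_one_iff]
    have h2 := hab (QuotientGroup.mk a) (QuotientGroup.mk b)
    have h3 := commutatorElement_eq_one_iff_mul_comm.2 h2
    exact h3
  have h2 := Group.isPerfect_def.1 (SignalizersComponents.Components.quasisimple_isPerfect h)
  rw [← h2]
  exact h1

theorem core (hS : AllKnown.{0}) (OT : OrderTable.{0}) (hP1 : P1) {x : G3} (hx : orderOf x = 3)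
    (hout : ∀ L : Subgroup (↥(centralizer ({x} : Set G3)) ⧸ pPrimeCore 3 ↥(centralizer ({x} : Set G3))),
      IsComponent L → ¬ Out (↥L ⧸ center ↥L)) : Comps 3 ↥(centralizer ({x} : Set G3)) := by
  intro L hL
  have hs : IsSimpleGroup (↥L ⧸ center ↥L) := hL.2.2
  have hd : Nat.card (↥L ⧸ center ↥L) ∣ N5 :=
    ((card_quotient_dvd_card _).trans ((card_subgroup_dvd_card _).trans (card_quotient_dvd_card _))).trans
      (card_cent_dvd hP1 hx)
  rcases table OT (hS (↥L ⧸ center ↥L)) (quot_not_comm hL.2) hd with h | h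
  · exact inC OT hL.2 (CpAut.isPGroup_center_comp (by norm_num) L hL) h
  · exact absurd h (hout L hL)

/-- elements commuting with an involution conjugate to `Z` -/
theorem comps_A (hS : AllKnown.{0}) (OT : OrderTable.{0}) (hP1 : P1) {x g : G3} (hx : orderOf x = 3)
    (hxt : x * (g * Z * g⁻¹) = g * Z * g⁻¹ * x) : Comps 3 ↥(centralizer ({x} : Set G3)) := by
  obtain ⟨E0, E, hE0, hE, hle, h27, h243, k1, k2, k3, hZ, hd⟩ := exists_E
  have h1 : g⁻¹ * x * g * Z = Z * (g⁻¹ * x * g) := by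
    calc g⁻¹ * x * g * Z = g⁻¹ * (x * (g * Z * g⁻¹)) * g := by group
      _ = g⁻¹ * (g * Z * g⁻¹ * x) * g := by rw [hxt]
      _ = _ := by group
  have hx3 : x ^ 3 = 1 := by rw [← hx, pow_orderOf_eq_one]
  have h3 : (g⁻¹ * x * g) ^ 3 = 1 := by
    have h4 : (g⁻¹ * x * g) ^ 3 = g⁻¹ * x ^ 3 * g := by
      have := conj_pow (a := g⁻¹) (b := x) (i := 3)
      rwa [inv_inv] at this
    rw [h4, hx3, mul_one, inv_mul_cancel]
  obtain ⟨c, hc⟩ := conj_E0 hE0 h27 k1 k2 k3 hZ hd h3 h1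
  have h5 : c * (g⁻¹ * x * g) * c⁻¹ = (c * g⁻¹) * x * (c * g⁻¹)⁻¹ := by group
  rw [h5] at hc
  obtain ⟨e⟩ := equiv_cent (c * g⁻¹) x
  have hxo : orderOf (c * g⁻¹ * x * (c * g⁻¹)⁻¹) = 3 := by rw [orderOf_cj, hx]
  refine Comps.congr e.symm (core hS OT hP1 hxo fun L hL ho => ?_)
  obtain ⟨⟨X, hX, hinv, h9⟩, h4, -⟩ := ho
  exact Kill.kill twoLocal hE.comm hE.exp h243 (hle hc) (not_64_cent hP1 hxo) hL
    (h4.trans (card_quotient_dvd_card _)) X hX hinv h9

/-- the other elements commuting with an involution -/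
theorem comps_B (hS : AllKnown.{0}) (OT : OrderTable.{0}) (hP1 : P1) {x : G3} (hx : orderOf x = 3)
    (h8 : 8 ∣ Nat.card ↥(centralizer ({x} : Set G3))) (h4 : ∀ s : G3, s * x = x * s → s ^ 4 = 1 → s ^ 2 = 1)
    (hconj : ∀ s t : G3, s * x = x * s → t * x = x * t → orderOf s = 2 → orderOf t = 2 →
      ∃ h : G3, h * x = x * h ∧ h * s * h⁻¹ = t) : Comps 3 ↥(centralizer ({x} : Set G3)) := by
  refine core hS OT hP1 hx fun L hL ho => ?_
  obtain ⟨-, hd, ho⟩ := ho
  have h1 := TwoB.twoB (H := ↥(centralizer ({x} : Set G3))) h8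
    (fun s hs => Subtype.ext (h4 s (mem_centralizer_singleton_iff.1 s.2) (congrArg Subtype.val hs)))
    (fun s t hs ht => by
      obtain ⟨h, hh, hst⟩ := hconj s t (mem_centralizer_singleton_iff.1 s.2) (mem_centralizer_singleton_iff.1 t.2)
        (by rw [Subgroup.orderOf_coe, hs]) (by rw [Subgroup.orderOf_coe, ht])
      exact ⟨⟨h, mem_centralizer_singleton_iff.2 hh⟩, Subtype.ext hst⟩) hL ((by norm_num : 2 ∣ 4).trans hd)
  rcases ho with h | h
  · exact h h1.1
  · exact h1.2 h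

/-- **Every element of order three.** -/
theorem comps_of (FT : ∀ (K : Type) [Group K] [Finite K], Odd (Nat.card K) → Group.IsSolvable K)
    (hS : AllKnown.{0}) (OT : OrderTable.{0}) (hP1 : P1) (hP2 : P2) (x : G3) (hx : orderOf x = 3) :
    Comps 3 ↥(centralizer ({x} : Set G3)) := by
  have : Fact (Nat.Prime 2) := ⟨Nat.prime_two⟩
  rcases Nat.even_or_odd (Nat.card ↥(centralizer ({x} : Set G3))) with he | ho
  · obtain ⟨u, hu⟩ := exists_prime_orderOf_dvd_card' 2 (even_iff_two_dvd.1 he)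
    have hu2 : orderOf (u : G3) = 2 := by rw [Subgroup.orderOf_coe, hu]
    rcases hP2 hx hu2 (mem_centralizer_singleton_iff.1 u.2).symm with ⟨g, hg⟩ | ⟨h8, h4, hc⟩
    · exact comps_A hS OT hP1 hx hg
    · exact comps_B hS OT hP1 hx h8 h4 hc
  · exact Comps.of_solvable (FT _ ho)

end Cfsg.Agent.CpAutCo3.Comp

end

-- merged: Cfsg.Agent.CpAutCo3.Main
section

/-!
# S1814, row Co3, `p = 3`: `AutC 3 Spor.Co3`, given the facts on the involutions of the second class
-/

set_option autoImplicit false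

namespace Cfsg.Agent.CpAutCo3.Main

open Subgroup Cfsg Cfsg.Agent.SporRec.Co3.Chain Cfsg.Agent.SporRec.Co3.Ident
open Cfsg.Agent.LThree (Comps)
open Cfsg.Agent.CpAut (AutC AutInner AllKnown autC_of_inner)
open Cfsg.Agent.OrdDiv (OrderTable)
open Cfsg.Agent.CpAutCo3.Comp

/-- all automorphisms are inner -/
theorem autInner (p : ℕ) : AutInner p G3 := by
  intro α _
  obtain ⟨g, hg⟩ := KFacts.Co3.Out.range_conj.ge (mem_top α)
  exact ⟨g, hg.symm⟩

theorem center_bot : center G3 = ⊥ := by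
  have hs : IsSimpleGroup G3 := isCo3_G3.1
  apply CpAut.center_eq_bot_of_simple
  intro h
  have h1 : Z * TwoA.f1 = TwoA.f1 * Z := h.is_comm.comm _ _
  rw [TwoA.Zf1, mul_assoc] at h1
  have h2 := mul_left_cancel h1
  exact TwoA.f1_ne (mul_right_cancel (h2.trans (one_mul Z).symm))

theorem autC_G3 (FT : ∀ (K : Type) [Group K] [Finite K], Odd (Nat.card K) → Group.IsSolvable K)
    (hS : AllKnown.{0}) (OT : OrderTable.{0}) (hP1 : P1) (hP2 : P2) : AutC 3 G3 :=
  autC_of_inner center_bot (autInner 3) (comps_of FT hS OT hP1 hP2)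

theorem autC_of (FT : ∀ (K : Type) [Group K] [Finite K], Odd (Nat.card K) → Group.IsSolvable K)
    (hS : AllKnown.{0}) (OT : OrderTable.{0}) (hP1 : P1) (hP2 : P2) : AutC 3 Spor.Co3 :=
  (autC_G3 FT hS OT hP1 hP2).congr SporRec.Co3.Model.equivCo3

end Cfsg.Agent.CpAutCo3.Main

end

private theorem dce_a36f5fc24aff : _root_.True := by
  try have : _root_.True := by simp only [_root_.Cfsg.hermForm.eq_1]
  exact _root_.True.intro
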